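import Mathlib
import Cfsg.Agent.H971.Bender
import Cfsg.Agent.BenderType.Inv
import Cfsg.Agent.StdL2.Cover
import Cfsg.Agent.ClassicalGeometry.PSL2Basic
import Cfsg.Agent.S0089

/-!
# Finite groups in which the centralizers of involutions are abelian
-/

set_option autoImplicit false

universe u

namespace Cfsg.Agent.H971.AbelInv

open Cfsg Cfsg.Agent.StrongEmb.Split Cfsg.Agent.StrongEmb.Basic Cfsg.Agent.StrongEmb.TwoRank
  Cfsg.Agent.TwoFusion.StronglyEmbeddedBasic Cfsg.Agent.SuzukiRankOne.Reduction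
open scoped commutatorElement

/-- The centralizers of the involutions are abelian. -/
def AbCent (G : Type*) [Group G] : Prop :=
  ∀ t : G, orderOf t = 2 → ∀ x y : G, Commute x t → Commute y t → Commute x y

section Elementary

variable {G : Type*} [Group G] [Finite G]

/-- A nontrivial Sylow 2-subgroup is abelian. -/
theorem sylow_comm (h : AbCent G) (P : Sylow 2 G) (hP : (P : Subgroup G) ≠ ⊥) {x y : G}
    (hx : x ∈ (P : Subgroup G)) (hy : y ∈ (P : Subgroup G)) : Commute x y := by
  have : Fact (Nat.Prime 2) := ⟨Nat.prime_two⟩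
  have hnt : Nontrivial (P : Subgroup G) := (Subgroup.nontrivial_iff_ne_bot _).mpr hP
  have hc : Nontrivial (Subgroup.center (P : Subgroup G)) := P.isPGroup'.center_nontrivial
  obtain ⟨z, hz⟩ : ∃ z : Subgroup.center (P : Subgroup G), orderOf z = 2 := by
    apply exists_prime_orderOf_dvd_card'
    obtain ⟨n, hn⟩ := IsPGroup.iff_card.mp
      ((P.isPGroup').to_subgroup (Subgroup.center (P : Subgroup G)))
    rw [hn]
    refine dvd_pow_self 2 ?_
    rintro rfl
    rw [pow_zero] at hn
    exact absurd hn (Finite.one_lt_card (α := Subgroup.center (P : Subgroup G))).ne'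
  have hz2 : orderOf ((z : (P : Subgroup G)) : G) = 2 := by
    rw [Subgroup.orderOf_coe, Subgroup.orderOf_coe, hz]
  have hcm : ∀ w ∈ (P : Subgroup G), Commute w ((z : (P : Subgroup G)) : G) := by
    intro w hw
    have h1 := Subgroup.mem_center_iff.mp z.2 ⟨w, hw⟩
    exact congrArg Subtype.val h1
  exact h _ hz2 x y (hcm x hx) (hcm y hy)

/-- Two Sylow 2-subgroups with a common involution are equal. -/
theorem sylow_eq (h : AbCent G) {P Q : Sylow 2 G} {t : G} (ht : orderOf t = 2)
    (hP : t ∈ (P : Subgroup G)) (hQ : t ∈ (Q : Subgroup G)) : P = Q := by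
  have ht1 : t ≠ 1 := fun h1 => by rw [h1, orderOf_one] at ht; exact absurd ht (by norm_num)
  have hPne : (P : Subgroup G) ≠ ⊥ := fun hb => ht1 (Subgroup.mem_bot.mp (hb ▸ hP))
  have hQne : (Q : Subgroup G) ≠ ⊥ := fun hb => ht1 (Subgroup.mem_bot.mp (hb ▸ hQ))
  have hcomm : ∀ x ∈ (P : Subgroup G), ∀ y ∈ (Q : Subgroup G), Commute x y := fun x hx y hy =>
    h t ht x y (sylow_comm h P hPne hx hP) (sylow_comm h Q hQne hy hQ)
  have hle : (Q : Subgroup G) ≤ Subgroup.normalizer ((P : Subgroup G) : Set G) := by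
    intro y hy
    rw [Subgroup.mem_normalizer_iff]
    intro x
    constructor
    · intro hx
      rw [show y * x * y⁻¹ = x by rw [← (hcomm x hx y hy).eq]; group]
      exact hx
    · intro hx
      have h1 := hcomm _ hx y hy
      have h2 : y * x * y⁻¹ = x := by
        have h3 : y⁻¹ * (y * x * y⁻¹) * y = y * x * y⁻¹ := by
          rw [mul_assoc, h1.eq]; group
        have h4 : y⁻¹ * (y * x * y⁻¹) * y = x := by group
        rw [← h3, h4]
      rw [h2] at hx
      exact hx
  have h1 := IsPGroup.inf_normalizer_sylow Q.isPGroup' P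
  have h2 : (Q : Subgroup G) ≤ (P : Subgroup G) := by
    have h3 : (Q : Subgroup G) ⊓ Subgroup.normalizer ((P : Subgroup G) : Set G) = Q :=
      inf_eq_left.mpr hle
    have h4 : (Q : Subgroup G) ⊓ (P : Subgroup G) = Q := h1.symm.trans h3
    exact inf_eq_left.mp h4
  exact Sylow.ext (Q.is_maximal' P.isPGroup' h2)

/-- The normalizer of a non-normal Sylow 2-subgroup is strongly embedded. -/
theorem stronglyEmbedded (h : AbCent G) (heven : Even (Nat.card G)) (P : Sylow 2 G)
    (hn : ¬ (P : Subgroup G).Normal) :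
    IsStronglyEmbedded (Subgroup.normalizer ((P : Subgroup G) : Set G)) := by
  have : Fact (Nat.Prime 2) := ⟨Nat.prime_two⟩
  refine ⟨fun htop => hn (Subgroup.normalizer_eq_top_iff.mp htop), ?_, ?_⟩
  · have h1 : Nat.card (P : Subgroup G) ∣
        Nat.card (Subgroup.normalizer ((P : Subgroup G) : Set G)) :=
      Subgroup.card_dvd_of_le Subgroup.le_normalizer
    have h2 : 2 ∣ Nat.card (P : Subgroup G) :=
      P.dvd_card_of_dvd_card (even_iff_two_dvd.mp heven)
    exact even_iff_two_dvd.mpr (h2.trans h1)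
  · intro g hg
    rw [← Nat.not_even_iff_odd]
    intro hev
    obtain ⟨⟨t, ht⟩, ht2⟩ := exists_prime_orderOf_dvd_card' 2 (even_iff_two_dvd.mp hev)
    rw [Subgroup.orderOf_mk] at ht2
    obtain ⟨hta, s, hs, hst⟩ := Subgroup.mem_inf.mp ht
    have key : ∀ x : G, orderOf x = 2 → x ∈ Subgroup.normalizer ((P : Subgroup G) : Set G) →
        x ∈ (P : Subgroup G) := by
      intro x hx hxn
      have hz : IsPGroup 2 (Subgroup.zpowers x) := by
        rw [IsPGroup.iff_card]
        exact ⟨1, by rw [Nat.card_zpowers, hx, pow_one]⟩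
      have h1 := hz.inf_normalizer_sylow P
      have h2 : x ∈ Subgroup.zpowers x ⊓ Subgroup.normalizer ((P : Subgroup G) : Set G) :=
        ⟨Subgroup.mem_zpowers x, hxn⟩
      have h3 : x ∈ Subgroup.zpowers x ⊓ (P : Subgroup G) := by
        have := h1 ▸ h2
        exact this
      exact h3.2
    have hst' : g * s * g⁻¹ = t := hst
    have hs2 : orderOf s = 2 := by rw [← ht2, ← hst', orderOf_conj]
    have hsP := key s hs2 hs
    have htP := key t ht2 hta
    have htQ : t ∈ ((g • P : Sylow 2 G) : Subgroup G) := by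
      rw [← hst']
      exact Subgroup.smul_mem_pointwise_smul s (MulAut.conj g) _ hsP
    have h5 := sylow_eq h ht2 htP htQ
    apply hg
    exact (Sylow.smul_eq_iff_mem_normalizer.mp h5.symm)

/-- The bound `|K| ≤ |Q| (|Q| - 1) (|Q| + 1)`. -/
theorem card_le {K : Type*} [Group K] [Finite K] {H Q : Subgroup K} (hH : IsStronglyEmbedded H)
    (hQ : IsSplit H Q) (hcore : H.normalCore = ⊥) (hcen : AbCent K)
    (hab : ∀ x ∈ Q, ∀ y ∈ Q, Commute x y) {z : K} (hzQ : z ∈ Q) (hz : orderOf z = 2) :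
    Nat.card K ≤ Nat.card Q * (Nat.card Q - 1) * (Nat.card Q + 1) := by
  have hCH : ∀ x : K, Commute x z → x ∈ H := by
    intro x hx
    by_contra hxH
    have h1 := hH.2.2 x hxH
    rw [← Nat.not_even_iff_odd] at h1
    apply h1
    rw [even_iff_two_dvd, ← hz]
    have hmem : z ∈ H ⊓ H.map (MulAut.conj x).toMonoidHom := by
      refine ⟨hQ.le hzQ, z, hQ.le hzQ, ?_⟩
      show x * z * x⁻¹ = z
      rw [hx.eq]; group
    have := orderOf_dvd_natCard (⟨z, hmem⟩ : (H ⊓ H.map (MulAut.conj x).toMonoidHom : Subgroup K))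
    rwa [Subgroup.orderOf_mk] at this
  obtain ⟨t, ht, ht2⟩ := exists_involution_notMem hH
  -- `C(Q) ≤ Q`
  have hCQ : ∀ c : K, (∀ y ∈ Q, Commute c y) → c ∈ Q := by
    intro c hc
    have hcH : c ∈ H := hCH c (hc z hzQ)
    have hct : c * t ∉ H := fun h => ht (by
      have := mul_mem (inv_mem hcH) h
      rwa [inv_mul_cancel_left] at this)
    obtain ⟨u, hu, hut⟩ := hQ.trans (c * t) t hct ht
    -- `u * c` fixes `t H`
    have hcomm : ∀ y ∈ Q, Commute (u * c) y := fun y hy => (hab u hu y hy).mul_left (hc y hy)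
    have hker : ∀ g : K, g⁻¹ * (u * c) * g ∈ H := by
      intro g
      by_cases hg : g ∈ H
      · exact mul_mem (mul_mem (inv_mem hg) (mul_mem (hQ.le hu) hcH)) hg
      · obtain ⟨v, hv, hvg⟩ := hQ.trans t g ht hg
        -- `g⁻¹ v t ∈ H`
        have h1 : g⁻¹ * (u * c) * g = (g⁻¹ * (v * t)) * (t⁻¹ * (u * (c * t))) * (g⁻¹ * (v * t))⁻¹ := by
          have h2 : (u * c) * v = v * (u * c) := (hcomm v hv).eq
          calc g⁻¹ * (u * c) * g = g⁻¹ * ((u * c) * v) * v⁻¹ * g := by group
            _ = g⁻¹ * (v * (u * c)) * v⁻¹ * g := by rw [h2]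
            _ = _ := by group
        rw [h1]
        exact mul_mem (mul_mem hvg hut) (inv_mem hvg)
    have h1 : u * c ∈ H.normalCore := by
      intro g
      have := hker g⁻¹
      rwa [inv_inv] at this
    rw [hcore, Subgroup.mem_bot] at h1
    have h2 : c = u⁻¹ := (eq_inv_of_mul_eq_one_right h1)
    rw [h2]
    exact inv_mem hu
  have hCz : ∀ x : K, Commute x z → x ∈ Q := fun x hx =>
    hCQ x (fun y hy => hcen z hz x y hx (hab y hy z hzQ))
  -- `|H| ≤ (|Q| - 1) |Q|`
  classical
  let pick : K → K := fun w => if h : ∃ k ∈ H, k * z * k⁻¹ = w then h.choose else 1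
  have hpick : ∀ k ∈ H, pick (k * z * k⁻¹) ∈ H ∧
      pick (k * z * k⁻¹) * z * (pick (k * z * k⁻¹))⁻¹ = k * z * k⁻¹ := by
    intro k hk
    have hex : ∃ k' ∈ H, k' * z * k'⁻¹ = k * z * k⁻¹ := ⟨k, hk, rfl⟩
    have : pick (k * z * k⁻¹) = hex.choose := dif_pos hex
    rw [this]
    exact hex.choose_spec
  have hpickH : ∀ w, pick w ∈ H := by
    intro w
    by_cases hex : ∃ k ∈ H, k * z * k⁻¹ = w
    · rw [show pick w = hex.choose from dif_pos hex]
      exact hex.choose_spec.1
    · rw [show pick w = 1 from dif_neg hex]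
      exact one_mem H
  have hH1 : Nat.card H ≤ (Nat.card Q - 1) * Nat.card Q := by
    have hcard : Nat.card {w : Q // w ≠ 1} = Nat.card Q - 1 := by
      have : Fintype Q := Fintype.ofFinite Q
      rw [Nat.card_eq_fintype_card, Nat.card_eq_fintype_card, Fintype.card_subtype_compl,
        Fintype.card_subtype_eq]
    rw [← hcard, ← Nat.card_prod]
    let f : {w : Q // w ≠ 1} × Q → H := fun p =>
      ⟨pick ((p.1 : Q) : K) * (p.2 : K), mul_mem (hpickH _) (hQ.le p.2.2)⟩
    refine Nat.card_le_card_of_surjective f ?_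
    rintro ⟨k, hk⟩
    have hwQ : k * z * k⁻¹ ∈ Q := hQ.conj_mem hk hzQ
    have hw1 : (⟨k * z * k⁻¹, hwQ⟩ : Q) ≠ 1 := by
      intro h1
      have h2 : k * z * k⁻¹ = 1 := congrArg Subtype.val h1
      have h3 : orderOf (k * z * k⁻¹) = 2 := by rw [orderOf_conj, hz]
      rw [h2, orderOf_one] at h3
      exact absurd h3 (by norm_num)
    obtain ⟨h1, h2⟩ := hpick k hk
    have h3 : (pick (k * z * k⁻¹))⁻¹ * k ∈ Q := by
      apply hCz
      show (pick (k * z * k⁻¹))⁻¹ * k * z = z * ((pick (k * z * k⁻¹))⁻¹ * k)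
      calc (pick (k * z * k⁻¹))⁻¹ * k * z
          = (pick (k * z * k⁻¹))⁻¹ * (k * z * k⁻¹) * k := by group
        _ = (pick (k * z * k⁻¹))⁻¹ * (pick (k * z * k⁻¹) * z * (pick (k * z * k⁻¹))⁻¹) * k := by
            rw [h2]
        _ = z * ((pick (k * z * k⁻¹))⁻¹ * k) := by group
    refine ⟨(⟨⟨k * z * k⁻¹, hwQ⟩, hw1⟩, ⟨_, h3⟩), ?_⟩
    apply Subtype.ext
    show pick (k * z * k⁻¹) * ((pick (k * z * k⁻¹))⁻¹ * k) = k
    group
  -- `|K| ≤ (|Q| + 1) |H|`
  have hK1 : Nat.card K ≤ (Nat.card Q + 1) * Nat.card H := by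
    have hcard : Nat.card (Option Q) = Nat.card Q + 1 := Finite.card_option
    rw [← hcard, ← Nat.card_prod]
    let f : Option Q × H → K := fun p => match p.1 with
      | none => (p.2 : K)
      | some u => (u : K) * t * (p.2 : K)
    refine Nat.card_le_card_of_surjective f ?_
    intro g
    by_cases hg : g ∈ H
    · exact ⟨(none, ⟨g, hg⟩), rfl⟩
    · obtain ⟨u, hu, hug⟩ := hQ.trans t g ht hg
      refine ⟨(some ⟨u, hu⟩, ⟨(g⁻¹ * (u * t))⁻¹, inv_mem hug⟩), ?_⟩
      show u * t * (g⁻¹ * (u * t))⁻¹ = g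
      group
  calc Nat.card K ≤ (Nat.card Q + 1) * Nat.card H := hK1
    _ ≤ (Nat.card Q + 1) * ((Nat.card Q - 1) * Nat.card Q) := Nat.mul_le_mul_left _ hH1
    _ = Nat.card Q * (Nat.card Q - 1) * (Nat.card Q + 1) := by ring

end Elementary

section Tools

variable {G : Type*} [Group G] [Finite G]

/-- All 2-subgroups are commutative. -/
theorem comm_of_isPGroup (h : AbCent G) {R : Subgroup G} (hR : IsPGroup 2 R) {x y : G}
    (hx : x ∈ R) (hy : y ∈ R) : Commute x y := by
  obtain ⟨P, hP⟩ := hR.exists_le_sylow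
  by_cases hb : (P : Subgroup G) = ⊥
  · have hx1 : x = 1 := by
      have := hP hx
      rw [hb] at this
      exact Subgroup.mem_bot.mp this
    rw [hx1]; exact Commute.one_left y
  · exact sylow_comm h P hb (hP hx) (hP hy)

omit [Finite G] in
/-- Lifting involutions through a quotient by a normal subgroup of odd order. -/
theorem exists_lift {N : Subgroup G} [N.Normal] (hN : Odd (Nat.card N)) {z : G ⧸ N}
    (hz : orderOf z = 2) : ∃ y : G, orderOf y = 2 ∧ (QuotientGroup.mk' N) y = z := by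
  obtain ⟨g, rfl⟩ := QuotientGroup.mk'_surjective N z
  have hg2 : g * g ∈ N := by
    have h1 : (QuotientGroup.mk' N) (g * g) = 1 := by
      rw [map_mul, ← pow_two, ← hz, pow_orderOf_eq_one]
    rw [← MonoidHom.mem_ker, QuotientGroup.ker_mk'] at h1
    exact h1
  have hodd : Odd (orderOf (g * g)) := by
    refine Odd.of_dvd_nat hN ?_
    have := orderOf_dvd_natCard (⟨_, hg2⟩ : N)
    rwa [Subgroup.orderOf_mk] at this
  obtain ⟨k, hk⟩ := hodd
  refine ⟨g ^ (2 * k + 1), ?_, ?_⟩
  · apply orderOf_eq_prime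
    · rw [← hk, ← pow_mul, mul_comm, pow_mul, pow_two, pow_orderOf_eq_one]
    · intro h1
      have h2 : (QuotientGroup.mk' N) g ^ (2 * k + 1) = 1 := by rw [← map_pow, h1, map_one]
      have h3 := orderOf_dvd_of_pow_eq_one h2
      rw [hz] at h3
      omega
  · rw [map_pow, pow_succ, pow_mul, ← hz, pow_orderOf_eq_one, one_pow, one_mul]

omit [Finite G] in
/-- The hypothesis passes to quotients by normal subgroups of odd order. -/
theorem AbCent.quotient (h : AbCent G) {N : Subgroup G} [N.Normal] (hN : Odd (Nat.card N)) :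
    AbCent (G ⧸ N) := by
  intro z hz x y hx hy
  obtain ⟨t, ht, rfl⟩ := exists_lift hN hz
  have key : ∀ w : G ⧸ N, Commute w ((QuotientGroup.mk' N) t) →
      ∃ c : G, Commute c t ∧ (QuotientGroup.mk' N) c = w := by
    intro w hw
    obtain ⟨g, rfl⟩ := QuotientGroup.mk'_surjective N w
    have hmem : g * t * g⁻¹ * t ∈ N := by
      have h1 : (QuotientGroup.mk' N) (g * t * g⁻¹ * t) = 1 := by
        rw [map_mul, map_mul, map_mul, map_inv, hw.eq]
        have h2 : (QuotientGroup.mk' N) t * (QuotientGroup.mk' N) t = 1 := by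
          rw [← map_mul, ← pow_two, ← ht, pow_orderOf_eq_one, map_one]
        rw [mul_inv_cancel_right, h2]
      rw [← MonoidHom.mem_ker, QuotientGroup.ker_mk'] at h1
      exact h1
    have hodd : Odd (orderOf (g * t * g⁻¹ * t)) := by
      refine Odd.of_dvd_nat hN ?_
      have := orderOf_dvd_natCard (⟨_, hmem⟩ : N)
      rwa [Subgroup.orderOf_mk] at this
    obtain ⟨k, hk⟩ := Bender.conj_of_odd (s := g * t * g⁻¹) (by rw [orderOf_conj, ht]) ht hodd
    set n := (g * t * g⁻¹ * t) ^ k with hn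
    have hnN : n ∈ N := pow_mem hmem k
    refine ⟨n⁻¹ * g, ?_, ?_⟩
    · show n⁻¹ * g * t = t * (n⁻¹ * g)
      calc n⁻¹ * g * t = n⁻¹ * (g * t * g⁻¹) * g := by group
        _ = t * (n⁻¹ * g) := by rw [← hk]; group
    · have h1 : (QuotientGroup.mk' N) n = 1 := by
        rw [← MonoidHom.mem_ker, QuotientGroup.ker_mk']; exact hnN
      rw [map_mul, map_inv, h1, inv_one, one_mul]
  obtain ⟨a, ha, rfl⟩ := key x hx
  obtain ⟨b, hb, rfl⟩ := key y hy
  exact (h t ht a b ha hb).map _

/-- Central extensions of `SL₂(2^n)` by groups of odd order split. -/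
theorem splits {N : Subgroup G} [N.Normal] (hc : N ≤ Subgroup.center G)
    (hN : Odd (Nat.card N)) {F : Type*} [Field F] [Fintype F] [CharP F 2] {n : ℕ} (hn : 2 ≤ n)
    (hF : Fintype.card F = 2 ^ n) (e : G ⧸ N ≃* Matrix.SpecialLinearGroup (Fin 2) F)
    (hsimple : IsSimpleGroup (G ⧸ N)) (hna : ∃ a b : G ⧸ N, a * b ≠ b * a)
    (h2 : ∀ P : Sylow 2 G, ∀ x ∈ (P : Subgroup G), ∀ y ∈ (P : Subgroup G), Commute x y) :
    ∃ (A : Type) (_ : CommGroup A) (_ : Finite A), Odd (Nat.card A) ∧
      Nonempty (G ≃* Matrix.SpecialLinearGroup (Fin 2) F × A) := by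
  obtain ⟨f⟩ := Cfsg.Agent.WeakTI.PslTwo.nonempty_equiv (F := F)
  -- all Sylow subgroups of `G` are abelian
  have hsyl : ∀ p : ℕ, p.Prime → ∀ P : Sylow p G, IsMulCommutative P := by
    intro p hp P
    have : Fact p.Prime := ⟨hp⟩
    by_cases hp2 : p = 2
    · subst hp2
      exact ⟨⟨fun a b => Subtype.ext (h2 P a a.2 b b.2)⟩⟩
    · let g : G →* Matrix.ProjectiveSpecialLinearGroup (Fin 2) F :=
        (f.toMonoidHom.comp e.toMonoidHom).comp (QuotientGroup.mk' N)
      have hP' : IsPGroup p ((P : Subgroup G).map g) := P.isPGroup'.map g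
      obtain ⟨R, hR⟩ := hP'.exists_le_sylow
      have hRc := Cfsg.Agent.StdL2.Cover.isCyclic_sylow_even (by omega : 1 ≤ n) hF hp2 R
      let g' : (P : Subgroup G) →* R :=
        (g.comp (P : Subgroup G).subtype).codRestrict (R : Subgroup _) (fun x => hR ⟨x, x.2, rfl⟩)
      refine MonoidHom.isMulCommutative_of_isCyclic_of_ker_le_center g' ?_
      intro x hx
      have h1 : g (x : G) = 1 := congrArg Subtype.val (MonoidHom.mem_ker.mp hx)
      have h3 : (QuotientGroup.mk' N) (x : G) = 1 := by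
        have h4 : f (e ((QuotientGroup.mk' N) (x : G))) = 1 := h1
        rw [map_eq_one_iff f f.injective, map_eq_one_iff e e.injective] at h4
        exact h4
      rw [← MonoidHom.mem_ker, QuotientGroup.ker_mk'] at h3
      have h5 := Subgroup.mem_center_iff.mp (hc h3)
      rw [Subgroup.mem_center_iff]
      intro y
      exact Subtype.ext (h5 y)
  have hinf : commutator G ⊓ Subgroup.center G = ⊥ := Cfsg.Agent.S0089.result hsyl
  -- `G = G' N`
  have hperf : (commutator G).map (QuotientGroup.mk' N) = ⊤ := by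
    have hnorm : ((commutator G).map (QuotientGroup.mk' N)).Normal :=
      Subgroup.Normal.map inferInstance _ (QuotientGroup.mk'_surjective N)
    rcases IsSimpleGroup.eq_bot_or_eq_top_of_normal _ hnorm with h | h
    · exfalso
      obtain ⟨a, b, hab⟩ := hna
      obtain ⟨a, rfl⟩ := QuotientGroup.mk'_surjective N a
      obtain ⟨b, rfl⟩ := QuotientGroup.mk'_surjective N b
      apply hab
      have h1 : (QuotientGroup.mk' N) ⁅a, b⁆ = 1 := by
        have h3 : (QuotientGroup.mk' N) ⁅a, b⁆ ∈ (commutator G).map (QuotientGroup.mk' N) :=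
          ⟨_, Subgroup.commutator_mem_commutator (Subgroup.mem_top a) (Subgroup.mem_top b), rfl⟩
        rw [h] at h3
        exact Subgroup.mem_bot.mp h3
      rw [map_commutatorElement, commutatorElement_eq_one_iff_mul_comm] at h1
      exact h1
    · exact h
  have hdec : ∀ g : G, ∃ n ∈ N, ∃ c ∈ commutator G, g = n * c := by
    intro g
    have h1 : (QuotientGroup.mk' N) g ∈ (commutator G).map (QuotientGroup.mk' N) := by
      rw [hperf]; trivial
    obtain ⟨c, hcm, hcg⟩ := h1
    refine ⟨g * c⁻¹, ?_, c, hcm, by group⟩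
    rw [← QuotientGroup.ker_mk' N, MonoidHom.mem_ker, map_mul, map_inv, hcg, mul_inv_cancel]
  -- the isomorphism
  let φ : G →* (G ⧸ N) × Abelianization G := (QuotientGroup.mk' N).prod Abelianization.of
  have hinj : Function.Injective φ := by
    rw [injective_iff_map_eq_one]
    intro g hg
    have h1 : (QuotientGroup.mk' N) g = 1 := congrArg Prod.fst hg
    have h3 : Abelianization.of g = 1 := congrArg Prod.snd hg
    rw [← MonoidHom.mem_ker, QuotientGroup.ker_mk'] at h1
    rw [← MonoidHom.mem_ker, Abelianization.ker_of] at h3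
    have h4 : g ∈ commutator G ⊓ Subgroup.center G := ⟨h3, hc h1⟩
    rw [hinf] at h4
    exact Subgroup.mem_bot.mp h4
  have hsurj : Function.Surjective φ := by
    rintro ⟨a, b⟩
    obtain ⟨a, rfl⟩ := QuotientGroup.mk'_surjective N a
    obtain ⟨b, rfl⟩ := QuotientGroup.mk'_surjective (commutator G) b
    obtain ⟨m, hm, c, hcm, hmc⟩ := hdec (a⁻¹ * b)
    refine ⟨a * m, Prod.ext ?_ ?_⟩
    · show (QuotientGroup.mk' N) (a * m) = (QuotientGroup.mk' N) a
      have h1 : (QuotientGroup.mk' N) m = 1 := by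
        rw [← MonoidHom.mem_ker, QuotientGroup.ker_mk']; exact hm
      rw [map_mul, h1, mul_one]
    · show (QuotientGroup.mk' (commutator G)) (a * m) = (QuotientGroup.mk' (commutator G)) b
      have h1 : (QuotientGroup.mk' (commutator G)) c = 1 := by
        rw [← MonoidHom.mem_ker, QuotientGroup.ker_mk']; exact hcm
      have h3 : b = a * m * c := by rw [mul_assoc, ← hmc]; group
      rw [h3, map_mul _ (a * m) c, h1, mul_one]
  let E : G ≃* (G ⧸ N) × Abelianization G := MulEquiv.ofBijective φ ⟨hinj, hsurj⟩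
  have hAodd : Odd (Nat.card (Abelianization G)) := by
    refine Odd.of_dvd_nat hN ?_
    refine Subgroup.card_dvd_of_surjective (Abelianization.of.comp N.subtype) ?_
    intro b
    obtain ⟨b, rfl⟩ := QuotientGroup.mk'_surjective (commutator G) b
    obtain ⟨m, hm, c, hcm, hmc⟩ := hdec b
    refine ⟨⟨m, hm⟩, ?_⟩
    show (QuotientGroup.mk' (commutator G)) m = (QuotientGroup.mk' (commutator G)) b
    have h1 : (QuotientGroup.mk' (commutator G)) c = 1 := by
      rw [← MonoidHom.mem_ker, QuotientGroup.ker_mk']; exact hcm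
    rw [hmc, map_mul, h1, mul_one]
  refine ⟨Shrink.{0} (Abelianization G), inferInstance, inferInstance, ?_, ⟨?_⟩⟩
  · rwa [Nat.card_congr (equivShrink.{0} (Abelianization G)).symm]
  · exact E.trans (MulEquiv.prodCongr e (Shrink.mulEquiv.{0} (α := Abelianization G)).symm)

end Tools

section Main

variable {G : Type u} [Group G] [Finite G]

/-- **The theorem** (Bender's theorem as a hypothesis). -/
theorem main (hB : ∀ (K : Type u) [Group K] [Finite K], BenderHolds K) (h : AbCent G)
    (heven : Even (Nat.card G)) {P : Sylow 2 G} (hcyc : ¬ IsCyclic P)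
    (hnn : ¬ (P : Subgroup G).Normal) :
    ∃ (F : Type) (_ : Field F) (_ : Fintype F) (A : Type) (_ : CommGroup A) (_ : Finite A),
      CharP F 2 ∧ Odd (Nat.card A) ∧ Nonempty (G ≃* Matrix.SpecialLinearGroup (Fin 2) F × A) := by
  have hp2 : Fact (Nat.Prime 2) := ⟨Nat.prime_two⟩
  have hPne : (P : Subgroup G) ≠ ⊥ := P.ne_bot_of_dvd_card (even_iff_two_dvd.mp heven)
  have hSE := stronglyEmbedded h heven P hnn
  -- two distinct commuting involutions
  have hr : CommPair G := by
    by_contra hno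
    rcases sylow_of_not_commPair hno P with h1 | ⟨m, hm, ⟨e⟩⟩
    · exact hcyc h1
    · have hc : QuaternionGroup.a (n := 2 ^ m) 1 * QuaternionGroup.xa 0 =
          QuaternionGroup.xa 0 * QuaternionGroup.a 1 := by
        apply e.symm.injective
        rw [map_mul, map_mul]
        exact Subtype.ext (sylow_comm h P hPne (e.symm _).2 (e.symm _).2)
      rw [QuaternionGroup.a_mul_xa, QuaternionGroup.xa_mul_a, QuaternionGroup.xa.injEq,
        zero_sub, zero_add] at hc
      have h3 : ((2 : ℕ) : ZMod (2 * 2 ^ m)) = 0 := by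
        have h4 : (1 : ZMod (2 * 2 ^ m)) + 1 = 0 := by
          nth_rewrite 1 [← hc]; ring
        rw [← h4]; push_cast; ring
      rw [ZMod.natCast_eq_zero_iff] at h3
      have h5 := Nat.le_of_dvd (by norm_num) h3
      have h6 : 2 ^ 1 ≤ 2 ^ m := Nat.pow_le_pow_right (by norm_num) hm
      omega
  set N := oddCore G with hNdef
  have hNodd : Odd (Nat.card N) := odd_oddCore G
  have hNn : N.Normal := inferInstance
  obtain ⟨hH', hr', hcore'⟩ := Cfsg.Agent.StrongEmb.Consequences.quotient_data hSE hr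
  obtain ⟨hsim, hcp, ⟨K, hK, QK, hQK⟩, hodd, Q, hQ, hQ2⟩ := Bender.quotient_all hB hSE hr
  have h' : AbCent (G ⧸ N) := h.quotient hNodd
  set H' := (Subgroup.normalizer ((P : Subgroup G) : Set G)).map (QuotientGroup.mk' N) with hH'def
  obtain ⟨t, ht, ht2⟩ := exists_involution_notMem hH'
  have hset := setup_of_isSplit hH' hQ ht ht2
  have hfaith : FaithfulSMul (G ⧸ N) ((G ⧸ N) ⧸ H') := faithfulSMul_of_core hcore'
  have hQodd : Odd Q.index := odd_index_of_le hset le_rfl
  have hQle : Q ≤ invClosure (G ⧸ N) := Q_le_invClosure hset hr'.exists_sq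
  have hQcomm : ∀ x ∈ Q, ∀ y ∈ Q, Commute x y := fun x hx y hy => comm_of_isPGroup h' hQ2 hx hy
  obtain ⟨⟨z, hzQ⟩, hz⟩ := exists_prime_orderOf_dvd_card' (G := Q) 2
    (even_iff_two_dvd.mp hset.even_card)
  rw [Subgroup.orderOf_mk] at hz
  have hcardle := card_le hH' hQ hcore' h' hQcomm hzQ hz
  -- identification of the simple normal subgroup
  have hcommL : ∀ {X : Type} [Group X] [Finite X] (f : X →* G ⧸ N), Function.Injective f →
      ∀ R : Sylow 2 X, IsMulCommutative (R : Subgroup X) := by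
    intro X _ _ f hf R
    refine ⟨⟨fun a b => Subtype.ext (hf ?_)⟩⟩
    have h1 : IsPGroup 2 ((R : Subgroup X).map f) := R.isPGroup'.map f
    have h3 := comm_of_isPGroup h' h1 ⟨a, a.2, rfl⟩ ⟨b, b.2, rfl⟩
    show f ((a : X) * b) = f ((b : X) * a)
    rw [map_mul, map_mul]
    exact h3
  rcases Cfsg.Agent.StrongEmb.Simple.of_isSplit hK hQK hcp with
    ⟨F, i1, i2, ⟨n, hn, hF⟩, ⟨e⟩⟩ | ⟨F, i1, i2, m, hm, hF, ⟨e⟩⟩ | ⟨F, i1, i2, n, hn, hF, ⟨e⟩⟩
  rotate_left
  · exfalso
    obtain ⟨R⟩ : Nonempty (Sylow 2 ↥(Cfsg.Lie.Sz F (2 ^ (m + 1)))) := inferInstance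
    have : Finite F := Finite.of_fintype F
    exact (Cfsg.Agent.BenderType.Inv.ty_sz hm hF R).not_comm
      (hcommL ((invClosure (G ⧸ N)).subtype.comp e.symm.toMonoidHom)
        ((invClosure (G ⧸ N)).subtype_injective.comp e.symm.injective) R)
  · exfalso
    obtain ⟨R⟩ : Nonempty (Sylow 2 (Cfsg.PSU 3 F (2 ^ n))) := inferInstance
    exact (Cfsg.Agent.BenderType.Inv.ty_psu (by omega) hF R).not_comm
      (hcommL ((invClosure (G ⧸ N)).subtype.comp e.symm.toMonoidHom)
        ((invClosure (G ⧸ N)).subtype_injective.comp e.symm.injective) R)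
  have hchar : CharP F 2 := by
    obtain ⟨p, hp⟩ := CharP.exists F
    obtain ⟨m, hpp, hpm⟩ := FiniteField.card F p
    have h3 : (2 : ℕ) ∣ p ^ (m : ℕ) := by
      rw [← hpm, hF]
      exact dvd_pow_self 2 (by omega)
    have h4 := (Nat.prime_dvd_prime_iff_eq Nat.prime_two hpp).mp
      (Nat.Prime.dvd_of_dvd_pow Nat.prime_two h3)
    rw [h4]; exact hp
  obtain ⟨f⟩ := Cfsg.Agent.WeakTI.PslTwo.nonempty_equiv (F := F)
  let e' : invClosure (G ⧸ N) ≃* Matrix.SpecialLinearGroup (Fin 2) F := e.trans f.symm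
  have hLcard : Nat.card (invClosure (G ⧸ N)) = 2 ^ n * ((2 ^ n) ^ 2 - 1) := by
    rw [Nat.card_congr e'.toEquiv, Cfsg.Agent.ClassicalGeometry.PSL2Basic.card_SL2, hF]
  have hq4 : 4 ≤ 2 ^ n := by
    calc 4 = 2 ^ 2 := by norm_num
      _ ≤ 2 ^ n := Nat.pow_le_pow_right (by norm_num) hn
  have hQcard : Nat.card Q = 2 ^ n := by
    obtain ⟨k, hk⟩ := IsPGroup.iff_card.mp hQ2
    have h1 : Nat.card Q * Q.relIndex (invClosure (G ⧸ N)) = 2 ^ n * ((2 ^ n) ^ 2 - 1) := by
      rw [← hLcard]
      have := Subgroup.relIndex_mul_relIndex ⊥ Q (invClosure (G ⧸ N)) bot_le hQle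
      rwa [Subgroup.relIndex_bot_left, Subgroup.relIndex_bot_left] at this
    have h3 : Odd (Q.relIndex (invClosure (G ⧸ N))) := by
      have := Subgroup.relIndex_mul_index hQle
      rw [← this] at hQodd
      exact (Nat.odd_mul.mp hQodd).1
    have h4 : Odd ((2 ^ n) ^ 2 - 1) := by
      refine Nat.Even.sub_odd (Nat.one_le_iff_ne_zero.mpr (by positivity)) ?_ odd_one
      exact (Nat.even_pow.mpr ⟨Nat.even_pow.mpr ⟨even_two, by omega⟩, by norm_num⟩)
    rw [hk] at h1 ⊢
    apply Nat.dvd_antisymm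
    · refine Nat.Coprime.dvd_of_dvd_mul_right
        (Nat.Coprime.pow_left k (Nat.coprime_two_left.mpr h4)) ?_
      exact ⟨_, h1.symm⟩
    · refine Nat.Coprime.dvd_of_dvd_mul_right
        (Nat.Coprime.pow_left n (Nat.coprime_two_left.mpr h3)) ?_
      exact ⟨_, h1⟩
  have hLtop : invClosure (G ⧸ N) = ⊤ := by
    apply Subgroup.eq_top_of_le_card
    rw [hLcard]
    refine hcardle.trans ?_
    rw [hQcard]
    have h1 : (2 ^ n) ^ 2 - 1 = (2 ^ n + 1) * (2 ^ n - 1) := by
      have := Nat.sq_sub_sq (2 ^ n) 1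
      rwa [one_pow] at this
    rw [h1]
    apply le_of_eq
    ring
  have hntG : Nontrivial (G ⧸ N) :=
    ⟨⟨z, 1, fun h => by rw [h, orderOf_one] at hz; exact absurd hz (by norm_num)⟩⟩
  have hsimG : IsSimpleGroup (G ⧸ N) := by
    have e1 : invClosure (G ⧸ N) ≃* G ⧸ N :=
      (MulEquiv.subgroupCongr hLtop).trans Subgroup.topEquiv
    exact IsSimpleGroup.isSimpleGroup_of_surjective e1.toMonoidHom e1.surjective
  have eG : G ⧸ N ≃* Matrix.SpecialLinearGroup (Fin 2) F :=
    ((MulEquiv.subgroupCongr hLtop).trans Subgroup.topEquiv).symm.trans e'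
  -- the kernel is central
  have hNS : ∀ S : Sylow 2 G, ∀ c ∈ N, ∀ s ∈ (S : Subgroup G), Commute c s := by
    intro S
    have hSne : (S : Subgroup G) ≠ ⊥ := S.ne_bot_of_dvd_card (even_iff_two_dvd.mp heven)
    obtain ⟨x, y, hx, hy, hx1, hy1, hxy, hx2, hy2, hc⟩ :=
      exists_two_involutions_mem S (S : Subgroup G) le_rfl hr.exists_sq
    have hxy1 : x * y ≠ 1 := fun h1 => hxy (by
      have h3 : x = y⁻¹ := eq_inv_of_mul_eq_one_left h1
      rw [h3]; exact (inv_eq_of_mul_eq_one_right hy2))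
    have hxy2 : (x * y) * (x * y) = 1 := by
      calc (x * y) * (x * y) = x * (y * x) * y := by group
        _ = (x * x) * (y * y) := by rw [← hc]; group
        _ = 1 := by rw [hx2, hy2, one_mul]
    have hin : ∀ w ∈ (S : Subgroup G), w ≠ 1 → w * w = 1 →
        N ⊓ Subgroup.centralizer ({w} : Set G) ≤
          Subgroup.centralizer (((S : Subgroup G)) : Set G) := by
      intro w hw hw1 hw2 c hc
      have ho : orderOf w = 2 := orderOf_eq_prime (by rw [pow_two]; exact hw2) hw1
      rw [Subgroup.mem_centralizer_iff]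
      intro s hs
      have h1 : Commute c w := (Subgroup.mem_centralizer_singleton_iff.mp hc.2)
      exact (h w ho s c (sylow_comm h S hSne hs hw) h1).eq
    have hle := Cfsg.Agent.Lib.KleinGen.le_of_klein N
      (Subgroup.centralizer (((S : Subgroup G)) : Set G)) hNodd x y hx2 hy2 hc
      (fun c hc => hNn.conj_mem c hc x) (fun c hc => hNn.conj_mem c hc y)
      (hin x hx hx1 hx2) (hin y hy hy1 hy2) (hin (x * y) (mul_mem hx hy) hxy1 hxy2)
    intro c hc s hs
    exact ((Subgroup.mem_centralizer_iff.mp (hle hc)) s hs).symm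
  have hPinv : ∃ x ∈ (P : Subgroup G), orderOf x = 2 := by
    obtain ⟨x, y, hx, hy, hx1, hy1, hxy, hx2, hy2, hc⟩ :=
      exists_two_involutions_mem P (P : Subgroup G) le_rfl hr.exists_sq
    exact ⟨x, hx, orderOf_eq_prime (by rw [pow_two]; exact hx2) hx1⟩
  obtain ⟨x, hxP, hx2⟩ := hPinv
  have hNab : ∀ a ∈ N, ∀ b ∈ N, Commute a b := fun a ha b hb =>
    h x hx2 a b (hNS P a ha x hxP) (hNS P b hb x hxP)
  have hCtop : Subgroup.centralizer (N : Set G) = ⊤ := by
    have hCn : (Subgroup.centralizer (N : Set G)).Normal := Subgroup.normal_centralizer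
    have hNC : N ≤ Subgroup.centralizer (N : Set G) := fun a ha =>
      Subgroup.mem_centralizer_iff.mpr fun b hb => (hNab b hb a ha).eq
    have hmapn : ((Subgroup.centralizer (N : Set G)).map (QuotientGroup.mk' N)).Normal :=
      Subgroup.Normal.map hCn _ (QuotientGroup.mk'_surjective N)
    rcases IsSimpleGroup.eq_bot_or_eq_top_of_normal _ hmapn with hb | htop
    · exfalso
      have hxC : x ∈ Subgroup.centralizer (N : Set G) :=
        Subgroup.mem_centralizer_iff.mpr fun b hb => (hNS P b hb x hxP).eq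
      have h1 : (QuotientGroup.mk' N) x ∈ (Subgroup.centralizer (N : Set G)).map
          (QuotientGroup.mk' N) := ⟨x, hxC, rfl⟩
      rw [hb, Subgroup.mem_bot, ← MonoidHom.mem_ker, QuotientGroup.ker_mk'] at h1
      have h3 := orderOf_dvd_natCard (⟨x, h1⟩ : N)
      rw [Subgroup.orderOf_mk, hx2] at h3
      exact (Nat.not_even_iff_odd.mpr hNodd) (even_iff_two_dvd.mpr h3)
    · rw [eq_top_iff]
      intro g _
      have h1 : (QuotientGroup.mk' N) g ∈ (Subgroup.centralizer (N : Set G)).map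
          (QuotientGroup.mk' N) := by rw [htop]; trivial
      obtain ⟨c, hc, hcg⟩ := h1
      have h3 : g * c⁻¹ ∈ N := by
        rw [← QuotientGroup.ker_mk' N, MonoidHom.mem_ker, map_mul, map_inv, hcg, mul_inv_cancel]
      have h4 : g = (g * c⁻¹) * c := by group
      rw [h4]
      exact mul_mem (hNC h3) hc
  have hNcen : N ≤ Subgroup.center G := by
    intro a ha
    rw [Subgroup.mem_center_iff]
    intro g
    have h1 : g ∈ Subgroup.centralizer (N : Set G) := by rw [hCtop]; trivial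
    exact ((Subgroup.mem_centralizer_iff.mp h1) a ha).symm
  have hna : ∃ a b : G ⧸ N, a * b ≠ b * a := by
    by_contra hcon
    push Not at hcon
    -- then `Q` is normal
    have h1 : Q.Normal := ⟨fun a ha g => by rw [hcon g a, mul_inv_cancel_right]; exact ha⟩
    rcases IsSimpleGroup.eq_bot_or_eq_top_of_normal _ h1 with hb | htop
    · rw [hb] at hzQ
      rw [Subgroup.mem_bot.mp hzQ, orderOf_one] at hz
      exact absurd hz (by norm_num)
    · exact hH'.1 (top_le_iff.mp (htop ▸ hQ.le))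
  obtain ⟨A, iA, fA, hAodd, hiso⟩ := splits hNcen hNodd hn hF eG hsimG hna
    (fun S x hx y hy => sylow_comm h S (S.ne_bot_of_dvd_card (even_iff_two_dvd.mp heven)) hx hy)
  exact ⟨F, i1, i2, A, iA, fA, hchar, hAodd, hiso⟩

end Main

end Cfsg.Agent.H971.AbelInv
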