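import Mathlib

/-!
# The centralizer of an involution of type 2^4 1^6: explicit Sylow subgroups (helper971)

`Ga = S₆ × S₈`, `KK` the subgroup of the even elements whose second component commutes with a fixed point free
involution `s8`. `Hyp N` : `N` is normal in `KK` and contains the commutators of involutions of `KK`.

* `OP p H` : transitivity of a Sylow `p`-subgroup on the Sylow `p`-subgroups meeting it trivially, and no perfect
  subgroups if `p` does not divide the order;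
* `Hyp.false` : `OP p N` does not hold for odd `p`.
-/

set_option autoImplicit false
set_option linter.unusedSectionVars false
set_option maxRecDepth 100000

open scoped Pointwise

namespace Cfsg.Agent.H971.OddSix

open Equiv Equiv.Perm Subgroup

/-- transitivity on the opposite Sylow subgroups; perfect subgroups of `p'`-groups -/
def OP (p : ℕ) (H : Type*) [Group H] : Prop :=
  (∀ a c c' : Sylow p H, (∀ u, u ∈ a → u ∈ c → u = 1) → (∀ u, u ∈ a → u ∈ c' → u = 1) →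
    ∃ u ∈ a, ∀ x ∈ c, u * x * u⁻¹ ∈ c') ∧
  (¬ p ∣ Nat.card H → ∀ L : Subgroup H, ⁅L, L⁆ = L → L = ⊥)

theorem OP.congr {p : ℕ} {H H' : Type*} [Group H] [Group H'] (e : H ≃* H') (h : OP p H) : OP p H' := by
  refine ⟨fun a c c' h1 h2 => ?_, fun hp L hL => ?_⟩
  · have hr : ∀ b : Sylow p H', (b : Subgroup H') ≤ e.toMonoidHom.range := fun b x _ =>
      ⟨e.symm x, e.apply_symm_apply x⟩
    have key : ∀ (b : Sylow p H') (x : H), x ∈ b.comapOfInjective e.toMonoidHom e.injective (hr b) ↔ e x ∈ b :=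
      fun b x => Iff.rfl
    obtain ⟨u, hu, h3⟩ := h.1 (a.comapOfInjective e.toMonoidHom e.injective (hr a))
      (c.comapOfInjective e.toMonoidHom e.injective (hr c)) (c'.comapOfInjective e.toMonoidHom e.injective (hr c'))
      (fun u hu hc => e.injective (by rw [h1 _ ((key _ _).1 hu) ((key _ _).1 hc), map_one]))
      (fun u hu hc => e.injective (by rw [h2 _ ((key _ _).1 hu) ((key _ _).1 hc), map_one]))
    refine ⟨e u, (key _ _).1 hu, fun x hx => ?_⟩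
    have h4 := (key _ _).1 (h3 (e.symm x) ((key _ _).2 (by rw [e.apply_symm_apply]; exact hx)))
    rwa [map_mul, map_mul, map_inv, e.apply_symm_apply] at h4
  · have h1 : ⁅L.map e.symm.toMonoidHom, L.map e.symm.toMonoidHom⁆ = L.map e.symm.toMonoidHom := by
      rw [← Subgroup.map_commutator, hL]
    have h2 := h.2 (by rwa [Nat.card_congr e.toEquiv]) _ h1
    rwa [Subgroup.map_eq_bot_iff_of_injective _ e.symm.injective] at h2

/-- `S₆ × S₈` -/
abbrev Ga := Perm (Fin 6) × Perm (Fin 8)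

/-- the involution -/
def s8 : Perm (Fin 8) := swap 0 1 * swap 2 3 * swap 4 5 * swap 6 7

/-- the centralizer -/
def KK : Subgroup Ga where
  carrier := {g | g.2 * s8 = s8 * g.2 ∧ sign g.1 * sign g.2 = 1}
  one_mem' := by
    refine ⟨by simp, by simp⟩
  mul_mem' := by
    rintro a b ⟨h1, h2⟩ ⟨h3, h4⟩
    refine ⟨?_, ?_⟩
    · rw [Prod.snd_mul, mul_assoc, h3, ← mul_assoc, h1, mul_assoc]
    · rw [Prod.fst_mul, Prod.snd_mul, Perm.sign_mul, Perm.sign_mul, mul_mul_mul_comm, h2, h4, one_mul]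
  inv_mem' := by
    rintro a ⟨h1, h2⟩
    refine ⟨?_, ?_⟩
    · rw [Prod.snd_inv, inv_mul_eq_iff_eq_mul, ← mul_assoc, h1, mul_assoc, mul_inv_cancel, mul_one]
    · rw [Prod.fst_inv, Prod.snd_inv, Perm.sign_inv, Perm.sign_inv, h2]

theorem mem_KK {g : Ga} : g ∈ KK ↔ g.2 * s8 = s8 * g.2 ∧ sign g.1 * sign g.2 = 1 := Iff.rfl

structure Hyp (N : Subgroup Ga) : Prop where
  card : Nat.card N ∣ 138240
  norm : ∀ k ∈ KK, ∀ n ∈ N, k * n * k⁻¹ ∈ N
  comm : ∀ a b : Ga, a ∈ KK → b ∈ KK → a * a = 1 → b * b = 1 → a * b * a⁻¹ * b⁻¹ ∈ N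

/-! ### the elements -/

theorem Hyp.fst {N : Subgroup Ga} (h : Hyp N) {x y : Perm (Fin 6)} (hx : x * x = 1) (hy : y * y = 1) (sx : sign x = 1)
    (sy : sign y = 1) : ((x * y * x⁻¹ * y⁻¹, 1) : Ga) ∈ N := by
  have h1 := h.comm (x, 1) (y, 1) (mem_KK.2 ⟨by simp, by simp [sx]⟩) (mem_KK.2 ⟨by simp, by simp [sy]⟩)
    (by simp [hx]) (by simp [hy])
  simpa using h1

theorem Hyp.snd {N : Subgroup Ga} (h : Hyp N) {x y : Perm (Fin 8)} (hx : x * x = 1) (hy : y * y = 1) (sx : sign x = 1)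
    (sy : sign y = 1) (cx : x * s8 = s8 * x) (cy : y * s8 = s8 * y) : ((1, x * y * x⁻¹ * y⁻¹) : Ga) ∈ N := by
  have h1 := h.comm (1, x) (1, y) (mem_KK.2 ⟨cx, by simp [sx]⟩) (mem_KK.2 ⟨cy, by simp [sy]⟩)
    (by simp [hx]) (by simp [hy])
  simpa using h1

theorem sgn_ss {n : ℕ} {i j k l : Fin n} (h1 : i ≠ j) (h2 : k ≠ l) : sign (swap i j * swap k l) = 1 := by
  rw [Perm.sign_mul, sign_swap h1, sign_swap h2]; rfl

/-- commutator of two double transpositions -/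
def cm {n : ℕ} (i j k l i' j' k' l' : Fin n) : Perm (Fin n) :=
  (swap i j * swap k l) * (swap i' j' * swap k' l') * (swap i j * swap k l)⁻¹ * (swap i' j' * swap k' l')⁻¹

def a1 : Perm (Fin 6) := cm 0 1 3 4 1 2 3 4
def a2 : Perm (Fin 6) := cm 3 4 0 1 4 5 0 1
def g1 : Perm (Fin 6) := cm 2 3 0 1 3 4 0 1
def b : Perm (Fin 8) := cm 0 2 1 3 2 4 3 5
def g2 : Perm (Fin 8) := cm 2 4 3 5 4 6 5 7
def e : Perm (Fin 8) := swap 2 3 * swap 0 1

theorem Hyp.a1 {N : Subgroup Ga} (h : Hyp N) : ((OddSix.a1, 1) : Ga) ∈ N :=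
  h.fst (by decide) (by decide) (sgn_ss (by decide) (by decide)) (sgn_ss (by decide) (by decide))

theorem Hyp.a2 {N : Subgroup Ga} (h : Hyp N) : ((OddSix.a2, 1) : Ga) ∈ N :=
  h.fst (by decide) (by decide) (sgn_ss (by decide) (by decide)) (sgn_ss (by decide) (by decide))

theorem Hyp.g1 {N : Subgroup Ga} (h : Hyp N) : ((OddSix.g1, 1) : Ga) ∈ N :=
  h.fst (by decide) (by decide) (sgn_ss (by decide) (by decide)) (sgn_ss (by decide) (by decide))

theorem Hyp.b {N : Subgroup Ga} (h : Hyp N) : ((1, OddSix.b) : Ga) ∈ N :=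
  h.snd (by decide) (by decide) (sgn_ss (by decide) (by decide)) (sgn_ss (by decide) (by decide)) (by decide)
    (by decide)

theorem Hyp.g2 {N : Subgroup Ga} (h : Hyp N) : ((1, OddSix.g2) : Ga) ∈ N :=
  h.snd (by decide) (by decide) (sgn_ss (by decide) (by decide)) (sgn_ss (by decide) (by decide)) (by decide)
    (by decide)

theorem Hyp.e {N : Subgroup Ga} (h : Hyp N) : ((1, OddSix.e) : Ga) ∈ N := by
  have h1 := h.comm (1, swap 0 2 * swap 1 3) (swap 0 1, swap 0 1)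
    (mem_KK.2 ⟨by decide, by rw [sgn_ss (by decide) (by decide)]; simp⟩)
    (mem_KK.2 ⟨by decide, by rw [sign_swap (by decide), sign_swap (by decide)]; rfl⟩)
    (by decide) (by decide)
  have h2 : ((1, swap 0 2 * swap 1 3) : Ga) * (swap 0 1, swap 0 1) * (1, swap 0 2 * swap 1 3)⁻¹ *
      (swap 0 1, swap 0 1)⁻¹ = (1, OddSix.e) := by decide
  rwa [h2] at h1

/-! ### the homomorphisms -/

/-- the Sylow 3-subgroup of `S₆` -/
def h1 : Multiplicative (Fin 3) × Multiplicative (Fin 3) →* Perm (Fin 6) where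
  toFun x := a1 ^ (x.1.toAdd : ℕ) * a2 ^ (x.2.toAdd : ℕ)
  map_one' := by decide
  map_mul' := by decide

def h2 : Multiplicative (Fin 3) →* Perm (Fin 8) where
  toFun x := b ^ (x.toAdd : ℕ)
  map_one' := by decide
  map_mul' := by decide

theorem F1 : ∀ x y, h1 x = g1 * h1 y * g1⁻¹ → h1 x = 1 := by decide
theorem F2 : ∀ x y, h2 x = g2 * h2 y * g2⁻¹ → h2 x = 1 := by decide
theorem F3 : ∀ x y, h2 x = e * (g2 * h2 y * g2⁻¹) * e⁻¹ → h2 x = 1 := by decide
theorem F4 : ∀ x y, h2 x * (g2 * b * g2⁻¹) * (h2 x)⁻¹ ≠ e * (g2 * h2 y * g2⁻¹) * e⁻¹ := by decide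
theorem I1 : ∀ x, h1 x = 1 → x = 1 := by decide
theorem I2 : ∀ x, h2 x = 1 → x = 1 := by decide

def al : Perm (Fin 6) := a1 * g1

def h5 : Multiplicative (Fin 5) →* Perm (Fin 6) where
  toFun x := al ^ (x.toAdd : ℕ)
  map_one' := by decide
  map_mul' := by decide

theorem I5 : ∀ x, h5 x = 1 → x = 1 := by decide
theorem F5 : ∀ x y, h5 x = a2 * h5 y * a2⁻¹ → h5 x = 1 := by decide
theorem F6 : ∀ x y, h5 x = a1 * h5 y * a1⁻¹ → h5 x = 1 := by decide
theorem F7 : ∀ x y, h5 x * (a2 * al * a2⁻¹) * (h5 x)⁻¹ ≠ a1 * h5 y * a1⁻¹ := by decide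

/-! ### the contradiction -/

theorem mem_smul_iff {H : Type*} [Group H] {p : ℕ} {a : Sylow p H} {g x : H} : x ∈ g • a ↔ g⁻¹ * x * g ∈ a := by
  change x ∈ MulAut.conj g • (a : Subgroup H) ↔ _
  rw [Subgroup.mem_pointwise_smul_iff_inv_smul_mem, ← map_inv, MulAut.smul_def, MulAut.conj_apply, inv_inv]
  rfl

/-- a Sylow subgroup from an injective homomorphism -/
theorem exists_sylow {N : Subgroup Ga} {p k : ℕ} [Fact p.Prime] {Z : Type} [Group Z] (φ : Z →* Ga)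
    (hinj : ∀ x, φ x = 1 → x = 1) (hZ : Nat.card Z = p ^ k) (hφ : ∀ x, φ x ∈ N) (hN : ¬ p ^ (k + 1) ∣ Nat.card N) :
    ∃ a : Sylow p ↥N, ∀ x : ↥N, x ∈ a ↔ ∃ z, φ z = x := by
  have h1 : Function.Injective (φ.codRestrict N hφ) := by
    rw [injective_iff_map_eq_one]
    intro x hx
    exact hinj x (congrArg Subtype.val hx)
  have h2 : Nat.card ↥(φ.codRestrict N hφ).range = p ^ k := by
    rw [← hZ]
    exact (Nat.card_congr (MonoidHom.ofInjective h1).toEquiv).symm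
  have h3 : (Nat.card ↥N).factorization p = k := by
    have h4 : p ^ k ∣ Nat.card ↥N := by
      rw [← h2]; exact Subgroup.card_subgroup_dvd_card _
    have h5 : Nat.card ↥N ≠ 0 := Nat.card_pos.ne'
    have h6 := (Fact.out : p.Prime).pow_dvd_iff_le_factorization h5 (k := k)
    have h7 := (Fact.out : p.Prime).pow_dvd_iff_le_factorization h5 (k := k + 1)
    have h8 := h6.1 h4
    have h9 : ¬ k + 1 ≤ (Nat.card ↥N).factorization p := fun h => hN (h7.2 h)
    omega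
  refine ⟨Sylow.ofCard (φ.codRestrict N hφ).range (by rw [h2, h3]), fun x => ?_⟩
  have h4 : x ∈ Sylow.ofCard (φ.codRestrict N hφ).range (by rw [h2, h3]) ↔ x ∈ (φ.codRestrict N hφ).range := Iff.rfl
  rw [h4, MonoidHom.mem_range]
  constructor
  · rintro ⟨z, hz⟩
    exact ⟨z, congrArg Subtype.val hz⟩
  · rintro ⟨z, hz⟩
    exact ⟨z, Subtype.ext hz⟩

theorem Hyp.three {N : Subgroup Ga} (h : Hyp N) (ho : OP 3 ↥N) : False := by
  have : Fact (Nat.Prime 3) := ⟨Nat.prime_three⟩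
  have m1 : ∀ x, ((OddSix.h1 x, 1) : Ga) ∈ N := by
    rintro ⟨x, y⟩
    have := N.mul_mem (N.pow_mem h.a1 (x.toAdd : ℕ)) (N.pow_mem h.a2 (y.toAdd : ℕ))
    have e1 : ((OddSix.h1 (x, y), 1) : Ga) = (OddSix.a1, 1) ^ (x.toAdd : ℕ) * (OddSix.a2, 1) ^ (y.toAdd : ℕ) := by
      rw [Prod.pow_mk, Prod.pow_mk, one_pow, one_pow, Prod.mk_mul_mk, one_mul]; rfl
    rw [e1]; exact this
  have m2 : ∀ x, ((1, OddSix.h2 x) : Ga) ∈ N := by
    intro x
    have := N.pow_mem h.b (x.toAdd : ℕ)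
    have e1 : ((1, OddSix.h2 x) : Ga) = (1, OddSix.b) ^ (x.toAdd : ℕ) := by
      rw [Prod.pow_mk, one_pow]; rfl
    rw [e1]; exact this
  obtain ⟨a, ha⟩ := exists_sylow (N := N) (p := 3) (k := 3) (OddSix.h1.prodMap OddSix.h2)
    (by
      rintro ⟨x, y⟩ hx
      have e1 : OddSix.h1 x = 1 := congrArg Prod.fst hx
      have e2 : OddSix.h2 y = 1 := congrArg Prod.snd hx
      rw [I1 x e1, I2 y e2]; rfl)
    (by
      rw [Nat.card_prod, Nat.card_prod, Nat.card_congr Multiplicative.toAdd, Nat.card_fin]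
      norm_num)
    (by
      rintro ⟨x, y⟩
      have := N.mul_mem (m1 x) (m2 y)
      rw [Prod.mk_mul_mk, one_mul, mul_one] at this
      exact this)
    (fun hh => absurd (hh.trans h.card) (by norm_num))
  have hG : ((OddSix.g1, OddSix.g2) : Ga) ∈ N := by
    have := N.mul_mem h.g1 h.g2
    rwa [Prod.mk_mul_mk, one_mul, mul_one] at this
  set G : ↥N := ⟨(OddSix.g1, OddSix.g2), hG⟩ with hGd
  set E : ↥N := ⟨(1, OddSix.e), h.e⟩ with hEd
  have hc : ∀ x : ↥N, x ∈ G • a ↔ ∃ z : (Multiplicative (Fin 3) × Multiplicative (Fin 3)) × Multiplicative (Fin 3), (x : Ga) = (OddSix.g1 * OddSix.h1 z.1 * OddSix.g1⁻¹, OddSix.g2 * OddSix.h2 z.2 * OddSix.g2⁻¹) := by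
    intro x
    rw [mem_smul_iff, ha]
    constructor
    · rintro ⟨z, hz⟩
      refine ⟨z, ?_⟩
      have e1 : (x : Ga) = (G : Ga) * ((G⁻¹ * x * G : ↥N) : Ga) * (G : Ga)⁻¹ := by
        push_cast
        group
      rw [e1, ← hz]; rfl
    · rintro ⟨z, hz⟩
      refine ⟨z, ?_⟩
      have e1 : ((G⁻¹ * x * G : ↥N) : Ga) = (G : Ga)⁻¹ * x * G := by push_cast; rfl
      rw [e1, hz]
      apply Prod.ext
      · change OddSix.h1 z.1 = OddSix.g1⁻¹ * (OddSix.g1 * OddSix.h1 z.1 * OddSix.g1⁻¹) * OddSix.g1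
        group
      · change OddSix.h2 z.2 = OddSix.g2⁻¹ * (OddSix.g2 * OddSix.h2 z.2 * OddSix.g2⁻¹) * OddSix.g2
        group
  have hc' : ∀ x : ↥N, x ∈ E • G • a → ∃ z : (Multiplicative (Fin 3) × Multiplicative (Fin 3)) × Multiplicative (Fin 3), (x : Ga) = (OddSix.g1 * OddSix.h1 z.1 * OddSix.g1⁻¹,
      OddSix.e * (OddSix.g2 * OddSix.h2 z.2 * OddSix.g2⁻¹) * OddSix.e⁻¹) := by
    intro x hx
    rw [mem_smul_iff, hc] at hx
    obtain ⟨z, hz⟩ := hx
    refine ⟨z, ?_⟩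
    have e1 : (x : Ga) = (E : Ga) * ((E⁻¹ * x * E : ↥N) : Ga) * (E : Ga)⁻¹ := by
      push_cast
      group
    rw [e1, hz]
    apply Prod.ext
    · change 1 * (OddSix.g1 * OddSix.h1 z.1 * OddSix.g1⁻¹) * 1⁻¹ = _
      rw [one_mul, inv_one, mul_one]
    · rfl
  obtain ⟨u, hu, h3⟩ := ho.1 a (G • a) (E • G • a)
    (by
      intro u hu hu'
      obtain ⟨z, hz⟩ := (ha u).1 hu
      obtain ⟨z', hz'⟩ := (hc u).1 hu'
      have e1 := F1 z.1 z'.1 (congrArg Prod.fst (hz.trans hz'))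
      have e2 := F2 z.2 z'.2 (congrArg Prod.snd (hz.trans hz'))
      apply Subtype.ext
      rw [← hz]
      exact Prod.ext e1 e2)
    (by
      intro u hu hu'
      obtain ⟨z, hz⟩ := (ha u).1 hu
      obtain ⟨z', hz'⟩ := hc' u hu'
      have e1 := F1 z.1 z'.1 (congrArg Prod.fst (hz.trans hz'))
      have e2 := F3 z.2 z'.2 (congrArg Prod.snd (hz.trans hz'))
      apply Subtype.ext
      rw [← hz]
      exact Prod.ext e1 e2)
  obtain ⟨z, hz⟩ := (ha u).1 hu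
  have hB : (G * ⟨(1, OddSix.b), h.b⟩ * G⁻¹ : ↥N) ∈ G • a := by
    rw [mem_smul_iff, ha]
    refine ⟨(1, Multiplicative.ofAdd 1), ?_⟩
    have e1 : (G⁻¹ * (G * ⟨(1, OddSix.b), h.b⟩ * G⁻¹) * G : ↥N) = ⟨(1, OddSix.b), h.b⟩ := by group
    have e2 : (OddSix.h1.prodMap OddSix.h2) (1, Multiplicative.ofAdd 1) = ((1, OddSix.b) : Ga) := by decide
    rw [e1, e2]
  obtain ⟨z', hz'⟩ := hc' _ (h3 _ hB)
  refine F4 z.2 z'.2 ?_
  have e1 := congrArg Prod.snd hz'
  have e2 : OddSix.h2 z.2 = (u : Ga).2 := congrArg Prod.snd hz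
  rw [e2]
  exact e1

theorem Hyp.five {N : Subgroup Ga} (h : Hyp N) (ho : OP 5 ↥N) : False := by
  have : Fact (Nat.Prime 5) := ⟨Nat.prime_five⟩
  have hal : ((OddSix.al, 1) : Ga) ∈ N := by
    have := N.mul_mem h.a1 h.g1
    rwa [Prod.mk_mul_mk, one_mul] at this
  have m1 : ∀ x, ((OddSix.h5 x, 1) : Ga) ∈ N := by
    intro x
    have := N.pow_mem hal (x.toAdd : ℕ)
    have e1 : ((OddSix.h5 x, 1) : Ga) = (OddSix.al, 1) ^ (x.toAdd : ℕ) := by
      rw [Prod.pow_mk, one_pow]; rfl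
    rw [e1]; exact this
  obtain ⟨a, ha⟩ := exists_sylow (N := N) (p := 5) (k := 1) (OddSix.h5.prod 1)
    (fun x hx => I5 x (congrArg Prod.fst hx))
    (by rw [Nat.card_congr Multiplicative.toAdd, Nat.card_fin]; norm_num)
    (fun x => m1 x)
    (fun hh => absurd (hh.trans h.card) (by norm_num))
  have key : ∀ (g : Perm (Fin 6)) (hg : ((g, 1) : Ga) ∈ N) (x : ↥N), x ∈ (⟨(g, 1), hg⟩ : ↥N) • a ↔
      ∃ z, (x : Ga) = (g * OddSix.h5 z * g⁻¹, 1) := by
    intro g hg x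
    rw [mem_smul_iff, ha]
    constructor
    · rintro ⟨z, hz⟩
      refine ⟨z, ?_⟩
      have e1 : (x : Ga) = ((g, 1) : Ga) * (((⟨(g, 1), hg⟩ : ↥N)⁻¹ * x * ⟨(g, 1), hg⟩ : ↥N) : Ga) * ((g, 1) : Ga)⁻¹ := by
        push_cast
        group
      rw [e1, ← hz]
      apply Prod.ext
      · rfl
      · change (1 : Perm (Fin 8)) * 1 * 1⁻¹ = 1
        group
    · rintro ⟨z, hz⟩
      refine ⟨z, ?_⟩
      have e1 : (((⟨(g, 1), hg⟩ : ↥N)⁻¹ * x * ⟨(g, 1), hg⟩ : ↥N) : Ga) = ((g, 1) : Ga)⁻¹ * (x : Ga) * ((g, 1) : Ga) := by push_cast; rfl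
      rw [e1, hz]
      apply Prod.ext
      · change OddSix.h5 z = g⁻¹ * (g * OddSix.h5 z * g⁻¹) * g
        group
      · change (1 : Perm (Fin 8)) = 1⁻¹ * 1 * 1
        group
  obtain ⟨u, hu, h3⟩ := ho.1 a ((⟨(OddSix.a2, 1), h.a2⟩ : ↥N) • a) ((⟨(OddSix.a1, 1), h.a1⟩ : ↥N) • a)
    (by
      intro u hu hu'
      obtain ⟨z, hz⟩ := (ha u).1 hu
      obtain ⟨z', hz'⟩ := (key _ _ u).1 hu'
      have e1 := F5 z z' (congrArg Prod.fst (hz.trans hz'))
      apply Subtype.ext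
      rw [← hz]
      exact Prod.ext e1 rfl)
    (by
      intro u hu hu'
      obtain ⟨z, hz⟩ := (ha u).1 hu
      obtain ⟨z', hz'⟩ := (key _ _ u).1 hu'
      have e1 := F6 z z' (congrArg Prod.fst (hz.trans hz'))
      apply Subtype.ext
      rw [← hz]
      exact Prod.ext e1 rfl)
  obtain ⟨z, hz⟩ := (ha u).1 hu
  have hA : (⟨(OddSix.a2, 1), h.a2⟩ * ⟨(OddSix.al, 1), hal⟩ * ⟨(OddSix.a2, 1), h.a2⟩⁻¹ : ↥N) ∈
      (⟨(OddSix.a2, 1), h.a2⟩ : ↥N) • a := by
    rw [key]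
    refine ⟨Multiplicative.ofAdd 1, ?_⟩
    have e1 : OddSix.h5 (Multiplicative.ofAdd 1) = OddSix.al := by decide
    rw [e1]
    apply Prod.ext
    · rfl
    · change (1 : Perm (Fin 8)) * 1 * 1⁻¹ = 1
      group
  obtain ⟨z', hz'⟩ := (key _ _ _).1 (h3 _ hA)
  refine F7 z z' ?_
  have e1 := congrArg Prod.fst hz'
  have e2 : OddSix.h5 z = (u : Ga).1 := congrArg Prod.fst hz
  rw [e2]
  exact e1

/-- the alternating group of degree 6 is in `N` -/
theorem Hyp.alt {N : Subgroup Ga} (h : Hyp N) (x : Perm (Fin 6)) (hx : x ∈ alternatingGroup (Fin 6)) :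
    ((x, 1) : Ga) ∈ N := by
  have hs : IsSimpleGroup ↥(alternatingGroup (Fin 6)) := alternatingGroup.isSimpleGroup (by
    rw [Nat.card_fin]; norm_num)
  let φ : ↥(alternatingGroup (Fin 6)) →* Ga := (MonoidHom.inl (Perm (Fin 6)) (Perm (Fin 8))).comp (alternatingGroup (Fin 6)).subtype
  have hφ : ∀ y, φ y ∈ KK := fun y => mem_KK.2 ⟨by simp [φ], by
    have := mem_alternatingGroup.1 y.2
    simp [φ, this]⟩
  have hn : (N.comap φ).Normal := by
    constructor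
    intro n hn g
    rw [Subgroup.mem_comap] at hn ⊢
    rw [map_mul, map_mul, map_inv]
    exact h.norm _ (hφ g) _ hn
  have hx2 : N.comap φ = ⊤ := by
    rcases IsSimpleGroup.eq_bot_or_eq_top_of_normal (N.comap φ) hn with h1 | h1
    · exfalso
      have h2 : (⟨OddSix.a1, mem_alternatingGroup.2 (by decide)⟩ : ↥(alternatingGroup (Fin 6))) ∈ N.comap φ := h.a1
      rw [h1, Subgroup.mem_bot] at h2
      exact absurd (congrArg Subtype.val h2) (by decide)
    · exact h1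
  have h3 : (⟨x, hx⟩ : ↥(alternatingGroup (Fin 6))) ∈ N.comap φ := by rw [hx2]; trivial
  exact h3

theorem Hyp.perf {N : Subgroup Ga} (h : Hyp N) : ∃ L : Subgroup ↥N, ⁅L, L⁆ = L ∧ L ≠ ⊥ := by
  have hs : IsSimpleGroup ↥(alternatingGroup (Fin 6)) := alternatingGroup.isSimpleGroup (by
    rw [Nat.card_fin]; norm_num)
  let φ : ↥(alternatingGroup (Fin 6)) →* ↥N :=
    ((MonoidHom.inl (Perm (Fin 6)) (Perm (Fin 8))).comp (alternatingGroup (Fin 6)).subtype).codRestrict N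
      (fun y => h.alt y y.2)
  have h1 : ⁅(⊤ : Subgroup ↥(alternatingGroup (Fin 6))), (⊤ : Subgroup ↥(alternatingGroup (Fin 6)))⁆ = ⊤ := by
    rcases IsSimpleGroup.eq_bot_or_eq_top_of_normal
      ⁅(⊤ : Subgroup ↥(alternatingGroup (Fin 6))), (⊤ : Subgroup ↥(alternatingGroup (Fin 6)))⁆ inferInstance with h2 | h2
    · exfalso
      rw [Subgroup.commutator_eq_bot_iff_le_centralizer] at h2
      have h3 := h2 (Subgroup.mem_top (⟨OddSix.a1, mem_alternatingGroup.2 (by decide)⟩ : ↥(alternatingGroup (Fin 6))))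
      rw [Subgroup.mem_centralizer_iff] at h3
      have h4 := h3 ⟨OddSix.g1, mem_alternatingGroup.2 (by decide)⟩ trivial
      exact absurd (congrArg Subtype.val h4) (by decide)
    · exact h2
  refine ⟨φ.range, ?_, fun h2 => ?_⟩
  · rw [MonoidHom.range_eq_map, ← Subgroup.map_commutator, h1]
  · have h3 : φ ⟨OddSix.a1, mem_alternatingGroup.2 (by decide)⟩ ∈ φ.range := ⟨_, rfl⟩
    rw [h2, Subgroup.mem_bot] at h3
    have h4 : OddSix.a1 = 1 := congrArg (fun y : ↥N => (y : Ga).1) h3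
    exact absurd h4 (by decide)

theorem Hyp.false {N : Subgroup Ga} (h : Hyp N) {p : ℕ} (hp : p.Prime) (hp2 : p ≠ 2) (ho : OP p ↥N) : False := by
  by_cases hd : p ∣ Nat.card N
  · have h1 : p ∣ 2 ^ 10 * (3 ^ 3 * 5) := (hd.trans h.card).trans (by norm_num)
    rcases hp.dvd_mul.1 h1 with h2 | h2
    · exact hp2 ((Nat.prime_dvd_prime_iff_eq hp Nat.prime_two).1 (hp.dvd_of_dvd_pow h2))
    rcases hp.dvd_mul.1 h2 with h3 | h3
    · have h4 := (Nat.prime_dvd_prime_iff_eq hp Nat.prime_three).1 (hp.dvd_of_dvd_pow h3)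
      subst h4
      exact h.three ho
    · have h4 := (Nat.prime_dvd_prime_iff_eq hp Nat.prime_five).1 h3
      subst h4
      exact h.five ho
  · obtain ⟨L, h1, h2⟩ := h.perf
    exact h2 (ho.2 hd L h1)

end Cfsg.Agent.H971.OddSix
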