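import Mathlib
import Cfsg.Agent.H971.OddSixK
import Cfsg.Agent.H283.OddSpor
import Cfsg.Agent.SmallSimple.PSLTwoPart

/-!
# Transitivity on opposite Sylow subgroups in the centralizers of involutory automorphisms (helper971)

* `op_of_lie` : `OP p (C_G(x))` for `G` of Lie type in odd characteristic `p`, not a small Ree group;
* `ree_order` : the order of `C_G(x)` for a small Ree group does not divide `138240`.
-/

set_option autoImplicit false
set_option linter.unusedSectionVars false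

open scoped Pointwise

namespace Cfsg.Agent.H971.OddSix

open Cfsg Subgroup Cfsg.Agent.FixBN Cfsg.Agent.BpGate Cfsg.Agent.H283.DescInst Cfsg.Agent.H283.Desc
open Cfsg.Agent.H283.OddSpor

theorem op_of_good {K : Type*} [Group K] [Finite K] {p : ℕ} [hp : Fact p.Prime] (hp2 : p ≠ 2)
    (h : HasGoodSplit p K) (x : MulAut K) (hx : x ^ 2 = 1) : OP p ↥(fixedSubgroup x) := by
  have : Fact (Nat.Prime 2) := ⟨Nat.prime_two⟩
  refine ⟨?_, ?_⟩
  · obtain ⟨Pa, d, Bs, hD, -⟩ := exists_dsys (r := 2) (fun e => hp2 e.symm) h.hasSplit x hx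
    intro a c c' h1 h2
    obtain ⟨u, hu, e⟩ := hD.otr a c c' (m_one_iff.2 h1) (m_one_iff.2 h2)
    refine ⟨u, hu, fun y hy => ?_⟩
    rw [← e, OddSix.mem_smul_iff]
    have e1 : u⁻¹ * (u * y * u⁻¹) * u = y := by group
    rw [e1]; exact hy
  · intro hpd L hL
    obtain ⟨P, U, -, hg⟩ := h
    have hxx : ∀ g, x (x g) = g := fun g => by
      have := congrArg (fun y : MulAut K => y g) hx
      simpa [pow_two] using this
    have hLp : ⁅L.map (fixedSubgroup x).subtype, L.map (fixedSubgroup x).subtype⁆ = L.map (fixedSubgroup x).subtype := by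
      rw [← Subgroup.map_commutator, hL]
    have h1 := GoodSplit.out hp2 hg (x : K ≃* K) hxx (L := L.map (fixedSubgroup x).subtype) (map_subtype_le L) hLp
    have h2 : Lib.PComponents.pElem p (Reduce.fixSub (x : K ≃* K)) ≤ ⊥ := by
      unfold Lib.PComponents.pElem
      rw [closure_le]
      rintro y ⟨hy, n, hn⟩
      have h3 : orderOf (⟨y, hy⟩ : ↥(fixedSubgroup x)) ∣ p ^ n :=
        orderOf_dvd_of_pow_eq_one (Subtype.ext hn)
      have h4 : orderOf (⟨y, hy⟩ : ↥(fixedSubgroup x)) ∣ Nat.card ↥(fixedSubgroup x) := orderOf_dvd_natCard _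
      have h5 : Nat.Coprime (Nat.card ↥(fixedSubgroup x)) (p ^ n) :=
        Nat.Coprime.pow_right n ((Nat.Prime.coprime_iff_not_dvd hp.out).2 hpd).symm
      have h6 := Nat.eq_one_of_dvd_coprimes h5 h4 h3
      rw [orderOf_eq_one_iff] at h6
      exact congrArg Subtype.val h6
    rw [← Subgroup.map_eq_bot_iff_of_injective L (subtype_injective (fixedSubgroup x)), eq_bot_iff]
    exact h1.trans h2

/-- **Transitivity on opposites** -/
theorem op_of_lie {G : Type*} [Group G] [IsSimpleGroup G] {p : ℕ} (hp2 : p ≠ 2) (hG : IsLieTypeChar p G)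
    (hR : ¬ Lie.IsoRee G) (x : MulAut G) (hx : x ^ 2 = 1) : OP p ↥(fixedSubgroup x) := by
  rcases exists_good_model hp2 hG with h | h
  · obtain ⟨K, _, _, _, _, h, ⟨e⟩⟩ := h
    exact (op_of_good hp2 h (MulAut.congr e x) (by rw [← map_pow, hx, map_one])).congr (CpAut.fixEquiv e x).symm
  · exact absurd h hR

/-- **The small Ree groups**: the order of the centralizer of an involutory automorphism -/
theorem ree_order {G : Type*} [Group G] (h : Lie.IsoRee G) {x : MulAut G} (hx : x * x = 1) (hx1 : x ≠ 1) :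
    ¬ Nat.card ↥(fixedSubgroup x) ∣ 138240 := by
  obtain ⟨K, i1, i2, m, hm, hK, ⟨e0⟩⟩ := h
  classical
  have hchar := Cfsg.Agent.LieRecognition.ReeAbs.charP_three hK
  obtain ⟨U, h, n, D⟩ := Cfsg.Agent.ChevalleyStructure.Ree.Data.exists_data hK
  have hfin : Finite ↥(Cfsg.Lie.twistedG2 K (3 ^ m)) := Cfsg.Agent.LieRecognition.ReeSylowThree.finite D
  obtain ⟨hs, hc⟩ := Cfsg.Agent.S1073.result hm hK
  obtain ⟨a, haH, ha1, ha2⟩ := Cfsg.Agent.S1157.exists_involution hK
  obtain ⟨⟨e⟩, hS⟩ := Cfsg.Agent.S1152.result hK a haH ha1 ha2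
  have hcd := Cfsg.Agent.LieRecognition.ReeCent.centData ha1 ha2 e Cfsg.Agent.LieRecognition.ReePSL.klein
  have hy : MulAut.congr e0 x * MulAut.congr e0 x = 1 := by rw [← map_mul, hx, map_one]
  have hy1 : MulAut.congr e0 x ≠ 1 := fun h => hx1 ((MulAut.congr e0).injective (by rw [h, map_one]))
  obtain ⟨f⟩ := fix_equiv (BTheorem.center_eq_bot hc) e
      (fun g hg1 hg2 => Cfsg.Agent.LieRecognition.ReeInv.isConj_involution hcd
        Cfsg.Agent.LieRecognition.ReePSL.klein (Cfsg.Agent.S1116.result hK hm) hS hg1 hg2)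
      (RankOneRee.inner hm hK D) _ hy hy1
  have hcard : Nat.card ↥(fixedSubgroup x) = 3 ^ (2 * m + 1) * ((3 ^ (2 * m + 1)) ^ 2 - 1) := by
    rw [Nat.card_congr ((CpAut.fixEquiv e0 x).trans f).toEquiv, Nat.card_prod, Nat.card_congr Multiplicative.toAdd,
      Nat.card_zmod]
    have h1 := SmallSimple.PSLTwoPart.card_psl_two_odd (F := K) (by rw [hK]; exact (by decide : Odd 3).pow)
    rw [h1, hK]
  rw [hcard]
  intro hd
  have h1 : 3 ^ (2 * m + 1) ∣ 3 ^ 3 * 5120 := (Dvd.intro _ rfl).trans hd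
  have h2 : Nat.Coprime (3 ^ (2 * m + 1)) 5120 := Nat.Coprime.pow_left _ (by norm_num)
  have h3 := h2.dvd_of_dvd_mul_right h1
  have h4 := Nat.pow_dvd_pow_iff_le_right (by norm_num : 1 < 3) |>.1 h3
  have h5 : m = 1 := by omega
  subst h5
  revert hd
  norm_num

end Cfsg.Agent.H971.OddSix
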