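import Mathlib
import Cfsg.Agent.H313.AltEM
import Cfsg.Agent.H313.AltCard
import Cfsg.Agent.H971.OddSixOp

/-!
# No groups of Lie type of odd characteristic with six fixed points and at least eight moved points (helper971)

`M` simple of Lie type in odd characteristic, `t ∈ M` an involution; `M` normal in `X`, `C_X(t)` isomorphic with the
centralizer in an alternating group of an involution `s` with six fixed points and at least eight moved points.

* at least 12 moved points: THEOREM LO for the base group and the group generated by the block 3-cycles;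
* 8 moved points: `OddSix.Hyp.false`.
-/

set_option autoImplicit false
set_option linter.unusedSectionVars false

open scoped commutatorElement

namespace Cfsg.Agent.H971.AltOddSix

open Cfsg Subgroup Equiv Equiv.Perm Cfsg.Agent.H313.Alt Cfsg.Agent.H971.OddSix

universe u

section pull

variable {X : Type*} [Group X] {C : Type*} [Group C] {t : X}

/-- the part of `C` in `M` -/
def pull (f : C ≃* ↥(centralizer ({t} : Set X))) (M : Subgroup X) : Subgroup C :=
  M.comap ((centralizer ({t} : Set X)).subtype.comp f.toMonoidHom)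

theorem mem_pull {f : C ≃* ↥(centralizer ({t} : Set X))} {M : Subgroup X} {c : C} :
    c ∈ pull f M ↔ (f c : X) ∈ M := Iff.rfl

theorem pull_normal (f : C ≃* ↥(centralizer ({t} : Set X))) (M : Subgroup X) [hM : M.Normal] : (pull f M).Normal :=
  hM.comap _

theorem mem_fix (M : Subgroup X) (htM : t ∈ M) (m : ↥M) :
    m ∈ fixedSubgroup (MulAut.conj (⟨t, htM⟩ : ↥M)) ↔ (m : X) ∈ centralizer ({t} : Set X) := by
  rw [mem_centralizer_singleton_iff]
  have h1 : m ∈ fixedSubgroup (MulAut.conj (⟨t, htM⟩ : ↥M)) ↔ (⟨t, htM⟩ : ↥M) * m * (⟨t, htM⟩ : ↥M)⁻¹ = m := Iff.rfl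
  rw [h1, mul_inv_eq_iff_eq_mul, Subtype.ext_iff]
  exact eq_comm

/-- the embedding of the pullback into `M` -/
def inj (f : C ≃* ↥(centralizer ({t} : Set X))) (M : Subgroup X) : ↥(pull f M) →* ↥M where
  toFun c := ⟨(f c : X), c.2⟩
  map_one' := Subtype.ext (by simp)
  map_mul' a b := Subtype.ext (by simp)

theorem inj_injective (f : C ≃* ↥(centralizer ({t} : Set X))) (M : Subgroup X) : Function.Injective (inj f M) := by
  intro a b h
  have h1 : ((f (a : C) : ↥(centralizer ({t} : Set X))) : X) = ((f (b : C) : ↥(centralizer ({t} : Set X))) : X) :=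
    congrArg (fun m : ↥M => (m : X)) h
  exact Subtype.ext (f.injective (Subtype.ext h1))

theorem inj_range (f : C ≃* ↥(centralizer ({t} : Set X))) (M : Subgroup X) (htM : t ∈ M) :
    (inj f M).range = fixedSubgroup (MulAut.conj (⟨t, htM⟩ : ↥M)) := by
  ext m
  rw [mem_fix]
  constructor
  · rintro ⟨c, rfl⟩
    exact (f c).2
  · intro hm
    refine ⟨⟨f.symm ⟨m, hm⟩, ?_⟩, ?_⟩
    · rw [mem_pull, f.apply_symm_apply]; exact m.2
    · apply Subtype.ext
      change (f (f.symm ⟨m, hm⟩) : X) = m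
      rw [f.apply_symm_apply]

/-- the isomorphism -/
noncomputable def fixEq (f : C ≃* ↥(centralizer ({t} : Set X))) (M : Subgroup X) (htM : t ∈ M) :
    ↥(pull f M) ≃* ↥(fixedSubgroup (MulAut.conj (⟨t, htM⟩ : ↥M))) :=
  (MonoidHom.ofInjective (inj_injective f M)).trans (MulEquiv.subgroupCongr (inj_range f M htM))

theorem pull_comm (f : C ≃* ↥(centralizer ({t} : Set X))) (M : Subgroup X)
    (hcomm : ∀ a b : X, (∃ k, a ^ 2 ^ k = 1) → (∃ k, b ^ 2 ^ k = 1) → ⁅a, b⁆ ∈ M) {a b : C} (ha : a * a = 1)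
    (hb : b * b = 1) : a * b * a⁻¹ * b⁻¹ ∈ pull f M := by
  have h1 : ∀ c : C, c * c = 1 → (f c : X) ^ 2 ^ 1 = 1 := by
    intro c hc
    rw [pow_one, pow_two, ← Subgroup.coe_mul, ← map_mul, hc, map_one]; rfl
  have h2 := hcomm _ _ ⟨1, h1 a ha⟩ ⟨1, h1 b hb⟩
  rw [mem_pull]
  rw [commutatorElement_def] at h2
  simpa using h2

end pull

variable {Ω : Type*} [DecidableEq Ω] [Fintype Ω] {s : Perm Ω}

theorem bs_symm (s : Perm Ω) (x y : Ω) : bs s x y = bs s y x := by
  rw [bs, bs, swap_comm x y, swap_comm (s x) (s y)]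

/-- the block 3-cycle -/
def cyc (s : Perm Ω) (x y z : Ω) : Perm Ω := bs s x y * bs s y z

/-- three different blocks -/
structure Tri (s : Perm Ω) (x y z : Ω) : Prop where
  xy : Dis s x y
  yz : Dis s y z
  xz : Dis s x z

theorem bs_app (hs : s * s = 1) {x y z : Ω} (hx : Dis s x z) (hy : Dis s y z) : bs s x y z = z :=
  bs_of_ne hx.ne.symm hy.ne.symm (hx.ns' hs).symm (hy.ns' hs).symm

theorem cyc_mem (hs : s * s = 1) {x y z : Ω} (h : Tri s x y z) : cyc s x y z ∈ CC s :=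
  (CC s).mul_mem (bs_mem hs h.xy) (bs_mem hs h.yz)

theorem cyc_x (hs : s * s = 1) {x y z : Ω} (h : Tri s x y z) : cyc s x y z x = y := by
  rw [cyc, Perm.mul_apply, bs_app hs (h.xy.symm hs) (h.xz.symm hs), bs_left hs h.xy]

theorem cyc_y (hs : s * s = 1) {x y z : Ω} (h : Tri s x y z) : cyc s x y z y = z := by
  rw [cyc, Perm.mul_apply, bs_left hs h.yz, bs_app hs h.xz h.yz]

theorem cyc_of (hs : s * s = 1) {x y z w : Ω} (hx : Dis s x w) (hy : Dis s y w) (hz : Dis s z w) :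
    cyc s x y z w = w := by
  rw [cyc, Perm.mul_apply, bs_app hs hy hz, bs_app hs hx hy]

theorem conj_cyc {c : Perm Ω} (hc : c * s = s * c) (x y z : Ω) :
    c * cyc s x y z * c⁻¹ = cyc s (c x) (c y) (c z) := by
  rw [cyc, cyc, ← conj_bs hc, ← conj_bs hc]
  group

/-- block 3-cycles are commutators of involutions -/
theorem cyc_comm1 (hs : s * s = 1) {a y x : Ω} (h : Tri s a y x) :
    cyc s a y x = bs s a x * bs s x y * (bs s a x)⁻¹ * (bs s x y)⁻¹ := by
  rw [conj_bs (bs_comm hs h.xz), bs_right hs h.xz, bs_app hs h.xy (h.yz.symm hs), bs_symm s x y,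
    ← mul_eq_one_iff_eq_inv.1 (bs_bs hs h.yz)]
  rfl

/-- and of block 3-cycles -/
theorem cyc_comm2 (hs : s * s = 1) {a y x b z : Ω} (hay : Dis s a y) (hyx : Dis s y x) (hax : Dis s a x)
    (hab : Dis s a b) (hyb : Dis s y b) (hxb : Dis s x b) (haz : Dis s a z) (hyz : Dis s y z) (hxz : Dis s x z)
    (hbz : Dis s b z) :
    cyc s a y x = cyc s x a b * cyc s x y z * (cyc s x a b)⁻¹ * (cyc s x y z)⁻¹ := by
  have t1 : Tri s x a b := ⟨hax.symm hs, hab, hxb⟩
  rw [conj_cyc (mem_CC.1 (cyc_mem hs t1)).1, cyc_x hs t1, cyc_of hs (hyx.symm hs) hay (hyb.symm hs),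
    cyc_of hs hxz haz hbz]
  have e1 : (cyc s x y z)⁻¹ = bs s y z * bs s x y := by
    rw [cyc, mul_inv_rev, ← mul_eq_one_iff_eq_inv.1 (bs_bs hs hyz), ← mul_eq_one_iff_eq_inv.1 (bs_bs hs (hyx.symm hs))]
  rw [e1, cyc, cyc, mul_assoc, ← mul_assoc (bs s y z), bs_bs hs hyz, one_mul, bs_symm s x y]

/-- products of two pairs are commutators of involutions -/
theorem trtr_comm (hs : s * s = 1) {x y f g : Ω} (hd : Dis s x y) (hf : s f = f) (hg : s g = g) :
    tr s y * tr s x = bs s x y * (tr s x * swap f g) * (bs s x y)⁻¹ * (tr s x * swap f g)⁻¹ := by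
  have h1 := conj_tr (bs_comm hs hd) x
  rw [bs_left hs hd] at h1
  have h2 := swap_apply_apply (bs s x y) f g
  have h3 : ∀ w, s w = w → bs s x y w = w := by
    intro w hw
    refine bs_of_ne (fun e => hd.x1 (by rw [← e]; exact hw)) (fun e => hd.y1 (by rw [← e]; exact hw))
      (fun e => hd.x1 (s.injective (by rw [← e]; exact hw))) (fun e => hd.y1 (s.injective (by rw [← e]; exact hw)))
  rw [h3 f hf, h3 g hg] at h2
  have h4 : bs s x y * (tr s x * swap f g) * (bs s x y)⁻¹ * (tr s x * swap f g)⁻¹ =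
    (bs s x y * tr s x * (bs s x y)⁻¹) * (bs s x y * swap f g * (bs s x y)⁻¹) * (swap f g)⁻¹ * (tr s x)⁻¹ := by group
  rw [h4, h1, ← h2, tr_inv]
  group

/-- a moved point outside a small set -/
theorem exists_moved (T : Finset Ω) (hT : T.card < s.support.card) : ∃ w, s w ≠ w ∧ w ∉ T := by
  by_contra hcc
  push Not at hcc
  have h1 : s.support ⊆ T := fun w hw => hcc w (mem_support.1 hw)
  exact absurd (Finset.card_le_card h1) (by omega)

theorem dis_of (hs : s * s = 1) {x w : Ω} (hx : s x ≠ x) (hw : s w ≠ w) (h1 : w ≠ x) (h2 : w ≠ s x) : Dis s x w :=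
  ⟨hx, hw, h1.symm, fun e => h2 (by rw [e, ss hs])⟩

section caseA

variable (hs : s * s = 1) (hk : 9 ≤ s.support.card) {X : Type*} [Group X] {t : X}
  (f : ↥(CC s) ≃* ↥(centralizer ({t} : Set X))) (M : Subgroup X)

/-- generated by the block 3-cycles -/
def PP (s : Perm Ω) (N : Subgroup ↥(CC s)) : Subgroup ↥N :=
  closure {c | ∃ x y z, Tri s x y z ∧ ((c : ↥(CC s)) : Perm Ω) = cyc s x y z}

theorem cyc_pull (hs : s * s = 1) {N : Subgroup ↥(CC s)}
    (hN : ∀ a b : ↥(CC s), a * a = 1 → b * b = 1 → a * b * a⁻¹ * b⁻¹ ∈ N) {x y z : Ω} (h : Tri s x y z) :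
    (⟨cyc s x y z, cyc_mem hs h⟩ : ↥(CC s)) ∈ N := by
  have h1 := hN ⟨bs s x z, bs_mem hs h.xz⟩ ⟨bs s z y, bs_mem hs (h.yz.symm hs)⟩ (Subtype.ext (bs_bs hs h.xz))
    (Subtype.ext (bs_bs hs (h.yz.symm hs)))
  have h2 : (⟨cyc s x y z, cyc_mem hs h⟩ : ↥(CC s)) = ⟨bs s x z, bs_mem hs h.xz⟩ * ⟨bs s z y, bs_mem hs (h.yz.symm hs)⟩ *
      ⟨bs s x z, bs_mem hs h.xz⟩⁻¹ * ⟨bs s z y, bs_mem hs (h.yz.symm hs)⟩⁻¹ := Subtype.ext (cyc_comm1 hs h)
  rw [h2]; exact h1

theorem PP_perf (hs : s * s = 1) (hk : 9 ≤ s.support.card) {N : Subgroup ↥(CC s)}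
    (hN : ∀ a b : ↥(CC s), a * a = 1 → b * b = 1 → a * b * a⁻¹ * b⁻¹ ∈ N) : ⁅PP s N, PP s N⁆ = PP s N := by
  refine le_antisymm (Subgroup.commutator_le.2 fun a ha b hb =>
    mul_mem (mul_mem (mul_mem ha hb) (inv_mem ha)) (inv_mem hb)) ?_
  nth_rewrite 1 [PP]
  rw [closure_le]
  rintro c ⟨a, y, x, h, hc⟩
  obtain ⟨b, hb, hb'⟩ := exists_moved (s := s) {a, s a, y, s y, x, s x} (lt_of_le_of_lt (Finset.card_le_six) (by omega))
  obtain ⟨z, hz, hz'⟩ := exists_moved (s := s) {b, s b, a, s a, y, s y, x, s x}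
    (lt_of_le_of_lt ((Finset.card_insert_le _ _).trans (Nat.succ_le_succ ((Finset.card_insert_le _ _).trans
      (Nat.succ_le_succ Finset.card_le_six)))) (by omega))
  simp only [Finset.mem_insert, Finset.mem_singleton, not_or] at hb' hz'
  have hab := dis_of hs h.xy.x1 hb hb'.1 hb'.2.1
  have hyb := dis_of hs h.xy.y1 hb hb'.2.2.1 hb'.2.2.2.1
  have hxb := dis_of hs h.xz.y1 hb hb'.2.2.2.2.1 hb'.2.2.2.2.2
  have hbz := dis_of hs hb hz hz'.1 hz'.2.1
  have haz := dis_of hs h.xy.x1 hz hz'.2.2.1 hz'.2.2.2.1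
  have hyz := dis_of hs h.xy.y1 hz hz'.2.2.2.2.1 hz'.2.2.2.2.2.1
  have hxz := dis_of hs h.xz.y1 hz hz'.2.2.2.2.2.2.1 hz'.2.2.2.2.2.2.2
  have t1 : Tri s x a b := ⟨h.xz.symm hs, hab, hxb⟩
  have t2 : Tri s x y z := ⟨h.yz.symm hs, hyz, hxz⟩
  have e1 := cyc_comm2 hs h.xy h.yz h.xz hab hyb hxb haz hyz hxz hbz
  have m1 : (⟨⟨_, cyc_mem hs t1⟩, cyc_pull hs hN t1⟩ : ↥N) ∈ PP s N := subset_closure ⟨x, a, b, t1, rfl⟩
  have m2 : (⟨⟨_, cyc_mem hs t2⟩, cyc_pull hs hN t2⟩ : ↥N) ∈ PP s N := subset_closure ⟨x, y, z, t2, rfl⟩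
  have m3 := Subgroup.commutator_mem_commutator m1 m2
  have e2 : c = ⁅(⟨⟨_, cyc_mem hs t1⟩, cyc_pull hs hN t1⟩ : ↥N), ⟨⟨_, cyc_mem hs t2⟩, cyc_pull hs hN t2⟩⁆ := by
    apply Subtype.ext
    apply Subtype.ext
    rw [hc, e1]
    rfl
  rw [e2]; exact m3

end caseA

/-- **at least five blocks** -/
theorem caseA (hs : s * s = 1) (hk : 9 ≤ s.support.card) {e1 e2 : Ω} (he1 : s e1 = e1) (he2 : s e2 = e2)
    (he : e1 ≠ e2) {X : Type*} [Group X] {t : X} (ht : t * t = 1)
    (f : ↥(CC s) ≃* ↥(centralizer ({t} : Set X))) (M : Subgroup X) [M.Normal]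
    (hcomm : ∀ a b : X, (∃ k, a ^ 2 ^ k = 1) → (∃ k, b ^ 2 ^ k = 1) → ⁅a, b⁆ ∈ M) (htM : t ∈ M)
    (hLO : FixBN.LOAut ↥M) : False := by
  have hN : ∀ a b : ↥(CC s), a * a = 1 → b * b = 1 → a * b * a⁻¹ * b⁻¹ ∈ pull f M :=
    fun a b ha hb => pull_comm f M hcomm ha hb
  have hperf := PP_perf hs hk hN
  -- three blocks
  obtain ⟨x, hx, -⟩ := exists_moved (s := s) ∅ (by rw [Finset.card_empty]; omega)
  obtain ⟨y, hy, hy'⟩ := exists_moved (s := s) {x, s x} (lt_of_le_of_lt Finset.card_le_two (by omega))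
  obtain ⟨z, hz, hz'⟩ := exists_moved (s := s) {x, s x, y, s y} (lt_of_le_of_lt Finset.card_le_four (by omega))
  simp only [Finset.mem_insert, Finset.mem_singleton, not_or] at hy' hz'
  have hxy := dis_of hs hx hy hy'.1 hy'.2
  have hxz := dis_of hs hx hz hz'.1 hz'.2.1
  have hyz := dis_of hs hy hz hz'.2.2.1 hz'.2.2.2
  have htri : Tri s x y z := ⟨hxy, hyz, hxz⟩
  -- the normal 2-subgroup
  have hfix : FixBN.Reduce.fixSub (MulAut.conj (⟨t, htM⟩ : ↥M)) = (inj f M).range := by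
    rw [inj_range f M htM]; rfl
  have hsq : ∀ g : ↥M, MulAut.conj (⟨t, htM⟩ : ↥M) (MulAut.conj (⟨t, htM⟩ : ↥M) g) = g := by
    intro g
    have h1 : (⟨t, htM⟩ : ↥M) * ⟨t, htM⟩ = 1 := Subtype.ext ht
    rw [← MulAut.mul_apply, ← map_mul, h1, map_one]; rfl
  have key := hLO (MulAut.conj (⟨t, htM⟩ : ↥M)) hsq (((EE hs).subgroupOf (pull f M)).map (inj f M))
    ((PP s (pull f M)).map (inj f M))
    (by rw [hfix]; exact map_le_range _ _)
    (by
      rw [hfix]
      rintro _ ⟨g, rfl⟩ _ ⟨n, hn, rfl⟩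
      refine ⟨g * n * g⁻¹, ?_, by rw [map_mul, map_mul, map_inv]⟩
      rw [SetLike.mem_coe, mem_subgroupOf] at hn ⊢
      exact (EE_normal hs).conj_mem _ hn _)
    (by
      rintro ⟨_, n, hn, rfl⟩
      refine ⟨1, Subtype.ext ?_⟩
      change (inj f M n) ^ 2 ^ 1 = 1
      rw [pow_one, pow_two, ← map_mul]
      have h1 : n * n = 1 := Subtype.ext (EE_sq hs hn)
      rw [h1, map_one])
    (by rw [hfix]; exact map_le_range _ _)
    (by rw [← Subgroup.map_commutator, hperf])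
  have hu : (⟨⟨_, cyc_mem hs htri⟩, cyc_pull hs hN htri⟩ : ↥(pull f M)) ∈ PP s (pull f M) :=
    subset_closure ⟨x, y, z, htri, rfl⟩
  have hv : (⟨_, trtr_mem hs hy hx⟩ : ↥(CC s)) ∈ pull f M := by
    have h1 := hN ⟨_, bs_mem hs hxy⟩ ⟨_, trsw_mem hs hx he1 he2 he⟩ (Subtype.ext (bs_bs hs hxy))
      (Subtype.ext (sq_of_comm (disj_comm hx he1 he2) (tr_tr x) (swap_mul_self _ _)))
    have h2 : (⟨_, trtr_mem hs hy hx⟩ : ↥(CC s)) = ⟨_, bs_mem hs hxy⟩ * ⟨_, trsw_mem hs hx he1 he2 he⟩ *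
      (⟨_, bs_mem hs hxy⟩)⁻¹ * (⟨_, trsw_mem hs hx he1 he2 he⟩)⁻¹ := Subtype.ext (trtr_comm hs hxy he1 he2)
    rw [h2]; exact h1
  have hvE : (⟨_, trtr_mem hs hy hx⟩ : ↥(CC s)) ∈ EE hs := by
    intro w
    change (tr s y * tr s x) w = w ∨ (tr s y * tr s x) w = s w
    have hor : ∀ x w, tr s x w = w ∨ tr s x w = s w := by
      intro x w
      by_cases a1 : w = x
      · right; rw [a1, tr_left]
      by_cases a2 : w = s x
      · right; rw [a2, tr_right, ss hs]
      left; exact tr_of_ne a1 a2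
    rw [Perm.mul_apply]
    rcases hor x w with e | e
    · rw [e]; exact hor y w
    · rw [e, app_comm (tr_comm hs y)]
      rcases hor y w with e' | e'
      · right; rw [e']
      · left; rw [e', ss hs]
  have h1 := key _ ⟨_, hu, rfl⟩ (inj f M ⟨_, hv⟩) ⟨_, mem_subgroupOf.2 hvE, rfl⟩
  rw [← map_mul, ← map_mul] at h1
  have h2 := congrArg (fun c : ↥(pull f M) => ((c : ↥(CC s)) : Perm Ω)) (inj_injective f M h1)
  change cyc s x y z * (tr s y * tr s x) = tr s y * tr s x * cyc s x y z at h2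
  have h3 := congrArg (fun c : Perm Ω => c y) h2
  simp only [Perm.mul_apply] at h3
  rw [tr_of_ne hxy.ne.symm (hxy.ns' hs).symm, tr_left, app_comm (mem_CC.1 (cyc_mem hs htri)).1, cyc_y hs htri,
    tr_of_ne hxz.ne.symm (hxz.ns' hs).symm, tr_of_ne hyz.ne.symm (hyz.ns' hs).symm] at h3
  exact hz h3

/-! ### four blocks -/

/-- the involution of `Fin 6 ⊕ Fin 8` -/
def s14 : Perm (Fin 6 ⊕ Fin 8) := sumCongrHom (Fin 6) (Fin 8) (1, s8)

theorem s14_sq : s14 * s14 = 1 := by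
  rw [s14, ← map_mul]
  have : ((1, s8) : Ga) * (1, s8) = 1 := by decide
  rw [this, map_one]

theorem s14_fix : Fintype.card {x // s14 x = x} = 6 := by decide

/-- involutions with the same number of fixed points -/
theorem exists_equiv {Ω' : Type*} [DecidableEq Ω'] [Fintype Ω'] {s' : Perm Ω'} (hs : s * s = 1) (hs' : s' * s' = 1)
    (hc : Fintype.card Ω = Fintype.card Ω')
    (hf : Fintype.card {x // s x = x} = Fintype.card {x // s' x = x}) : ∃ e : Ω ≃ Ω', ∀ x, e (s x) = s' (e x) := by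
  have : Fact (Nat.Prime 2) := ⟨Nat.prime_two⟩
  let e0 : Ω ≃ Ω' := Fintype.equivOfCardEq hc
  let s1 : Perm Ω' := (e0.symm.trans s).trans e0
  have hs1 : s1 * s1 = 1 := by
    ext x
    change e0 (s (e0.symm (e0 (s (e0.symm x))))) = x
    rw [e0.symm_apply_apply, ss hs, e0.apply_symm_apply]
  have hf1 : Fintype.card {x // s1 x = x} = Fintype.card {x // s' x = x} := by
    rw [← hf]
    refine Fintype.card_congr (e0.symm.subtypeEquiv fun x => ?_)
    change e0 (s (e0.symm x)) = x ↔ _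
    rw [← e0.eq_symm_apply]
  have hcy : ∀ r : Perm Ω', r * r = 1 → r.cycleType = Multiset.replicate (Multiset.card r.cycleType) 2 ∧
      r.support.card = 2 * Multiset.card r.cycleType := by
    intro r hr
    have h2 := cycleType_of_pow_prime_eq_one (σ := r) (p := 2) (by rw [pow_two]; exact hr)
    refine ⟨h2, ?_⟩
    conv_lhs => rw [← sum_cycleType, h2, Multiset.sum_replicate, smul_eq_mul, mul_comm]
  have h3 := H313.AltCard.card_fix s1
  have h4 := H313.AltCard.card_fix s'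
  have h5 := Finset.card_le_univ s1.support
  have h6 := Finset.card_le_univ s'.support
  obtain ⟨h7, h8⟩ := hcy s1 hs1
  obtain ⟨h9, h10⟩ := hcy s' hs'
  have h11 : s1.cycleType = s'.cycleType := by
    rw [h7, h9]
    congr 1
    omega
  obtain ⟨c, hc⟩ := isConj_iff.1 (isConj_iff_cycleType_eq.2 h11)
  refine ⟨e0.trans c, fun x => ?_⟩
  rw [← hc]
  change c (e0 (s x)) = c (s1 (c⁻¹ (c (e0 x))))
  have h12 : c⁻¹ (c (e0 x)) = e0 x := by simp
  rw [h12]
  change _ = c (e0 (s (e0.symm (e0 x))))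
  rw [e0.symm_apply_apply]

section caseB

variable (e : Ω ≃ Fin 6 ⊕ Fin 8)

/-- the embedding of `S₆ × S₈` -/
def th : Ga →* Perm Ω where
  toFun g := (e.trans (sumCongrHom (Fin 6) (Fin 8) g)).trans e.symm
  map_one' := by
    ext x
    change e.symm ((sumCongrHom (Fin 6) (Fin 8) 1) (e x)) = x
    rw [map_one]
    exact e.symm_apply_apply x
  map_mul' a b := by
    ext x
    change e.symm ((sumCongrHom (Fin 6) (Fin 8) (a * b)) (e x)) =
      e.symm (sumCongrHom (Fin 6) (Fin 8) a (e (e.symm (sumCongrHom (Fin 6) (Fin 8) b (e x)))))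
    rw [map_mul, e.apply_symm_apply]; rfl

theorem th_app (g : Ga) (x : Ω) : th e g x = e.symm ((sumCongrHom (Fin 6) (Fin 8) g) (e x)) := rfl

theorem th_inj : Function.Injective (th e) := by
  intro a b h
  apply sumCongrHom_injective
  ext1 y
  have h1 := congrArg (fun c : Perm Ω => e (c (e.symm y))) h
  simpa [th_app] using h1

variable {e} (he : ∀ x, e (s x) = s14 (e x))
include he

theorem sum_comm_iff (g : Ga) : sumCongrHom (Fin 6) (Fin 8) g * s14 = s14 * sumCongrHom (Fin 6) (Fin 8) g ↔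
    g.2 * s8 = s8 * g.2 := by
  rw [s14, ← map_mul, ← map_mul, sumCongrHom_injective.eq_iff, Prod.ext_iff]
  constructor
  · exact fun h => h.2
  · exact fun h => ⟨by simp, h⟩

theorem th_mem (g : Ga) : th e g ∈ CC s ↔ g ∈ KK := by
  rw [mem_CC, mem_KK]
  have h1 : sign (th e g) = sign g.1 * sign g.2 := by
    have h2 : th e g = e.symm.permCongr (sumCongrHom (Fin 6) (Fin 8) g) := rfl
    rw [h2, sign_permCongr]
    exact sign_sumCongr g.1 g.2
  rw [h1, ← sum_comm_iff he]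
  have h3 : th e g * s = s * th e g ↔ sumCongrHom (Fin 6) (Fin 8) g * s14 = s14 * sumCongrHom (Fin 6) (Fin 8) g := by
    constructor
    · intro h
      ext1 y
      have h4 := congrArg (fun c : Perm Ω => e (c (e.symm y))) h
      simp only [Perm.mul_apply, th_app] at h4
      rw [e.apply_symm_apply, he, he, e.apply_symm_apply, e.apply_symm_apply] at h4
      exact h4
    · intro h
      refine comm_of_app fun x => ?_
      rw [th_app, th_app, he, Equiv.symm_apply_eq, he, e.apply_symm_apply]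
      exact congrArg (fun c : Perm (Fin 6 ⊕ Fin 8) => c (e x)) h
  rw [h3]

theorem mem_range_th {c : Perm Ω} (hc : c ∈ CC s) : c ∈ (th e).range := by
  have h1 : ((e.symm.trans c).trans e : Perm (Fin 6 ⊕ Fin 8)) ∈ (sumCongrHom (Fin 6) (Fin 8)).range := by
    apply mem_sumCongrHom_range_of_perm_mapsTo_inl
    rintro _ ⟨i, rfl⟩
    have h2 : s (e.symm (Sum.inl i)) = e.symm (Sum.inl i) := by
      rw [Equiv.eq_symm_apply, he, e.apply_symm_apply]
      rfl
    have h3 : s (c (e.symm (Sum.inl i))) = c (e.symm (Sum.inl i)) := (fix_iff ⟨c, hc⟩).2 h2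
    have h4 : s14 (e (c (e.symm (Sum.inl i)))) = e (c (e.symm (Sum.inl i))) := by rw [← he, h3]
    change e (c (e.symm (Sum.inl i))) ∈ _
    rcases hy : e (c (e.symm (Sum.inl i))) with j | j
    · exact ⟨j, rfl⟩
    · exfalso
      rw [hy] at h4
      have h5 : ∀ j : Fin 8, s14 (Sum.inr j) ≠ Sum.inr j := by decide
      exact h5 j h4
  obtain ⟨g, hg⟩ := h1
  refine ⟨g, ?_⟩
  ext x
  rw [th_app, hg]
  simp

end caseB

/-- **four blocks** -/
theorem caseB (hs : s * s = 1) (hk : s.support.card = 8) (h6 : Fintype.card {x // s x = x} = 6)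
    {X : Type*} [Group X] {t : X} (ht : t * t = 1) (ht1 : t ≠ 1)
    (f : ↥(CC s) ≃* ↥(centralizer ({t} : Set X))) (M : Subgroup X) [M.Normal] [IsSimpleGroup M] (hz : center ↥M = ⊥)
    (hcomm : ∀ a b : X, (∃ k, a ^ 2 ^ k = 1) → (∃ k, b ^ 2 ^ k = 1) → ⁅a, b⁆ ∈ M) (htM : t ∈ M)
    {p : ℕ} (hp : p.Prime) (hp2 : p ≠ 2) (hl : IsLieTypeChar p M) : False := by
  have hN : ∀ a b : ↥(CC s), a * a = 1 → b * b = 1 → a * b * a⁻¹ * b⁻¹ ∈ pull f M :=
    fun a b ha hb => pull_comm f M hcomm ha hb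
  have hNn := pull_normal f M
  have hx : MulAut.conj (⟨t, htM⟩ : ↥M) * MulAut.conj (⟨t, htM⟩ : ↥M) = 1 := by
    have h1 : (⟨t, htM⟩ : ↥M) * ⟨t, htM⟩ = 1 := Subtype.ext ht
    rw [← map_mul, h1, map_one]
  -- the order
  have hcard : Nat.card ↥(CC s) = 138240 := by
    obtain ⟨c, h1, h2⟩ := H313.AltCard.card_CC' hs (by omega)
    have h3 : c = 4 := by omega
    rw [h3, h6] at h2
    have h4 : Nat.factorial 6 * (2 ^ 4 * Nat.factorial 4) = 2 * 138240 := by decide
    omega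
  have hdvd : Nat.card ↥(pull f M) ∣ 138240 := by
    rw [← hcard]; exact Subgroup.card_subgroup_dvd_card _
  by_cases hR : Lie.IsoRee M
  · refine ree_order hR hx ?_ ?_
    · intro h
      have h1 : (⟨t, htM⟩ : ↥M) ∈ center ↥M := by
        rw [mem_center_iff]
        intro g
        have h2 := congrArg (fun α : MulAut ↥M => α g) h
        have h3 : (⟨t, htM⟩ : ↥M) * g * (⟨t, htM⟩ : ↥M)⁻¹ = g := h2
        rw [mul_inv_eq_iff_eq_mul] at h3
        exact h3.symm
      rw [hz, mem_bot] at h1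
      exact ht1 (congrArg Subtype.val h1)
    · rw [← Nat.card_congr (fixEq f M htM).toEquiv]; exact hdvd
  have hOP := op_of_lie hp2 hl hR (MulAut.conj (⟨t, htM⟩ : ↥M)) (by rw [pow_two]; exact hx)
  have hOP2 := hOP.congr (fixEq f M htM).symm
  -- coordinates
  have hΩ : Fintype.card Ω = Fintype.card (Fin 6 ⊕ Fin 8) := by
    have h1 := H313.AltCard.card_fix s
    have h2 := Finset.card_le_univ s.support
    rw [Fintype.card_sum, Fintype.card_fin, Fintype.card_fin]
    omega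
  obtain ⟨e, he⟩ := exists_equiv hs s14_sq hΩ (by rw [h6, s14_fix])
  set N' : Subgroup (Perm Ω) := (pull f M).map (CC s).subtype with hN'
  have hr : N' ≤ (th e).range := by
    rintro _ ⟨c, -, rfl⟩
    exact mem_range_th he c.2
  have hmem : ∀ g : Ga, g ∈ N'.comap (th e) ↔ ∃ h : th e g ∈ CC s, (⟨th e g, h⟩ : ↥(CC s)) ∈ pull f M := by
    intro g
    rw [mem_comap]
    constructor
    · rintro ⟨c, hc, h⟩
      have h1 : th e g ∈ CC s := by rw [← h]; exact c.2
      refine ⟨h1, ?_⟩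
      have h2 : (⟨th e g, h1⟩ : ↥(CC s)) = c := Subtype.ext h.symm
      rw [h2]; exact hc
    · rintro ⟨h1, h2⟩
      exact ⟨_, h2, rfl⟩
  have eN : ↥(N'.comap (th e)) ≃* ↥(pull f M) :=
    ((N'.comap (th e)).equivMapOfInjective (th e) (th_inj e)).trans
      ((MulEquiv.subgroupCongr (Subgroup.map_comap_eq_self hr)).trans
        ((pull f M).equivMapOfInjective (CC s).subtype (CC s).subtype_injective).symm)
  have hyp : Hyp (N'.comap (th e)) := by
    refine ⟨?_, ?_, ?_⟩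
    · rw [Nat.card_congr eN.toEquiv]; exact hdvd
    · intro k hk n hn
      obtain ⟨h1, h2⟩ := (hmem n).1 hn
      have h3 := (th_mem he k).2 hk
      have h4 := hNn.conj_mem _ h2 ⟨th e k, h3⟩
      refine (hmem _).2 ⟨?_, ?_⟩
      · rw [map_mul, map_mul, map_inv]
        exact (CC s).mul_mem ((CC s).mul_mem h3 h1) ((CC s).inv_mem h3)
      · convert h4 using 1
        apply Subtype.ext
        change th e (k * n * k⁻¹) = th e k * th e n * (th e k)⁻¹
        rw [map_mul, map_mul, map_inv]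
    · intro a b ha hb ha2 hb2
      have h3 := (th_mem he a).2 ha
      have h4 := (th_mem he b).2 hb
      have h5 := hN ⟨th e a, h3⟩ ⟨th e b, h4⟩
        (Subtype.ext (by change th e a * th e a = 1; rw [← map_mul, ha2, map_one]))
        (Subtype.ext (by change th e b * th e b = 1; rw [← map_mul, hb2, map_one]))
      refine (hmem _).2 ⟨?_, ?_⟩
      · rw [map_mul, map_mul, map_mul, map_inv, map_inv]
        exact (CC s).mul_mem ((CC s).mul_mem ((CC s).mul_mem h3 h4) ((CC s).inv_mem h3)) ((CC s).inv_mem h4)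
      · convert h5 using 1
        apply Subtype.ext
        change th e (a * b * a⁻¹ * b⁻¹) = th e a * th e b * (th e a)⁻¹ * (th e b)⁻¹
        rw [map_mul, map_mul, map_mul, map_inv, map_inv]
  exact hyp.false hp hp2 (hOP2.congr eN.symm)

/-- **(O6)** -/
theorem odd_six {Ω : Type*} [DecidableEq Ω] [Fintype Ω] {s : Equiv.Perm Ω} (hs : s * s = 1) (hD : 4 ∣ s.support.card)
    (hk : 8 ≤ s.support.card) (h6 : Fintype.card {x // s x = x} = 6) {X : Type u} [Group X] [Finite X] {t : X}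
    (f : ↥(CC s) ≃* ↥(Subgroup.centralizer ({t} : Set X))) (hf : ∀ h : s ∈ CC s, (f ⟨s, h⟩ : X) = t)
    (M : Subgroup X) [M.Normal] [IsSimpleGroup M] (hna : ¬ IsMulCommutative M)
    (hcomm : ∀ a b : X, (∃ k, a ^ 2 ^ k = 1) → (∃ k, b ^ 2 ^ k = 1) → ⁅a, b⁆ ∈ M) (htM : t ∈ M) {p : ℕ}
    (hp : p.Prime) (hp2 : p ≠ 2) (hl : IsLieTypeChar p M) : False := by
  obtain ⟨⟨f1, hf1⟩, ⟨f2, hf2⟩, hff⟩ := Fintype.one_lt_card_iff.1 (show 1 < Fintype.card {x // s x = x} by omega)
  have hff' : f1 ≠ f2 := fun e => hff (Subtype.ext e)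
  have hsC : s ∈ CC s := by
    refine mem_CC.2 ⟨rfl, ?_⟩
    obtain ⟨c, h1, -⟩ := H313.AltCard.card_cent hs
    have : Fact (Nat.Prime 2) := ⟨Nat.prime_two⟩
    have h2 := cycleType_of_pow_prime_eq_one (σ := s) (p := 2) (by rw [pow_two]; exact hs)
    have h3 : s.support.card = 2 * Multiset.card s.cycleType := by
      conv_lhs => rw [← sum_cycleType, h2, Multiset.sum_replicate, smul_eq_mul, mul_comm]
    rw [sign_of_cycleType, sum_cycleType, h3]
    obtain ⟨k, hk⟩ := hD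
    have h4 : Multiset.card s.cycleType = 2 * k := by omega
    rw [h4]
    have h5 : 2 * (2 * k) + 2 * k = 2 * (3 * k) := by ring
    rw [h5, pow_mul]
    simp
  have hs1 : s ≠ 1 := by
    rintro rfl
    simp at hk
  have ht : t * t = 1 := by
    rw [← hf hsC, ← Subgroup.coe_mul, ← map_mul]
    have h1 : (⟨s, hsC⟩ : ↥(CC s)) * ⟨s, hsC⟩ = 1 := Subtype.ext hs
    rw [h1, map_one]; rfl
  have ht1 : t ≠ 1 := by
    intro h
    rw [← hf hsC] at h
    have h1 : f ⟨s, hsC⟩ = 1 := Subtype.ext h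
    rw [map_eq_one_iff f f.injective] at h1
    exact hs1 (congrArg Subtype.val h1)
  by_cases h8 : s.support.card = 8
  · refine caseB hs h8 h6 ht ht1 f M ?_ hcomm htM hp hp2 hl
    rcases IsSimpleGroup.eq_bot_or_eq_top_of_normal (center ↥M) inferInstance with h1 | h1
    · exact h1
    · exfalso
      apply hna
      refine ⟨⟨fun a b => ?_⟩⟩
      have h2 : b ∈ center ↥M := by rw [h1]; trivial
      exact mem_center_iff.1 h2 a
  · exact caseA hs (by omega) hf1 hf2 hff' ht f M hcomm htM (FixBN.loAut_of_isLieTypeChar hp2 hl)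

end Cfsg.Agent.H971.AltOddSix
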