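import Cfsg.Agent.H454.AlperinGL3

/-!
# The upper unitriangular group is a Sylow `2`-subgroup of `SL₃(K) ≤ GD Δ ≤ GL₃(K)` (`K` finite of characteristic two)

Also: the normaliser of `T` consists of the triangular matrices.
-/

set_option autoImplicit false

namespace Cfsg.Agent.H971.GDSylow

open Matrix Cfsg.Agent.H454.AlperinGL3
open scoped MatrixGroups

variable {K : Type*} [Field K] {Δ : Subgroup Kˣ}

/-- `T Δ` in coordinates. -/
noncomputable def equivT (Δ : Subgroup Kˣ) : K × K × K ≃ T Δ where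
  toFun v := ⟨xx Δ v.1 v.2.1 v.2.2, xx_mem _ _ _⟩
  invFun x := (x.1.1.1 0 1, x.1.1.1 1 2, x.1.1.1 0 2)
  left_inv _ := rfl
  right_inv x := Subtype.ext (eq_xx x.2).symm

theorem card_T (Δ : Subgroup Kˣ) : Nat.card (T Δ) = Nat.card K ^ 3 := by
  rw [← Nat.card_congr (equivT Δ), Nat.card_prod, Nat.card_prod]
  ring

theorem card_GL3 [Finite K] : Nat.card (GL (Fin 3) K) =
    Nat.card K ^ 3 * ((Nat.card K ^ 3 - 1) * (Nat.card K ^ 2 - 1) * (Nat.card K - 1)) := by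
  have := Fintype.ofFinite K
  rw [Matrix.card_GL_field, Fin.prod_univ_three, ← Nat.card_eq_fintype_card]
  set q := Nat.card K with hq
  have hq1 : 1 ≤ q := Nat.card_pos
  have h0 : q ^ 3 - q ^ ((0 : Fin 3) : ℕ) = q ^ 3 - 1 := by simp
  have h1 : q ^ 3 - q ^ ((1 : Fin 3) : ℕ) = q * (q ^ 2 - 1) := by
    have : ((1 : Fin 3) : ℕ) = 1 := rfl
    rw [this, Nat.mul_sub, pow_one, mul_one]
    congr 1
    ring
  have h2 : q ^ 3 - q ^ ((2 : Fin 3) : ℕ) = q ^ 2 * (q - 1) := by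
    have : ((2 : Fin 3) : ℕ) = 2 := rfl
    rw [this, Nat.mul_sub, mul_one]
    congr 1
  rw [h0, h1, h2]
  ring

theorem not_two_dvd_index [Finite K] [CharP K 2] : ¬ 2 ∣ (T Δ).index := by
  have hq : 2 ∣ Nat.card K := by
    have := Fintype.ofFinite K
    have : Fact (Nat.Prime 2) := ⟨Nat.prime_two⟩
    obtain ⟨n, -, hn⟩ := FiniteField.card K 2
    rw [Nat.card_eq_fintype_card, hn]
    exact dvd_pow_self 2 n.ne_zero
  have hpos : 0 < Nat.card K := Nat.card_pos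
  have h1 : (T Δ).index * (GD Δ).index =
      (Nat.card K ^ 3 - 1) * (Nat.card K ^ 2 - 1) * (Nat.card K - 1) := by
    have h2 := (T Δ).card_mul_index
    have h3 := (GD Δ).card_mul_index
    rw [card_GL3, ← h2, card_T] at h3
    apply Nat.eq_of_mul_eq_mul_left (pow_pos hpos 3)
    rw [← h3]; ring
  intro h
  have h2 : 2 ∣ (Nat.card K ^ 3 - 1) * (Nat.card K ^ 2 - 1) * (Nat.card K - 1) := h1 ▸ h.mul_right _
  have h3 : ∀ k : ℕ, 1 ≤ k → ¬ 2 ∣ Nat.card K ^ k - 1 := by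
    intro k hk h4
    have h5 : 2 ∣ Nat.card K ^ k := dvd_pow hq (by omega)
    have h6 : 0 < Nat.card K ^ k := pow_pos hpos k
    omega
  rcases (Nat.Prime.dvd_mul Nat.prime_two).1 h2 with h4 | h4
  · rcases (Nat.Prime.dvd_mul Nat.prime_two).1 h4 with h5 | h5
    · exact h3 3 (by norm_num) h5
    · exact h3 2 (by norm_num) h5
  · exact h3 1 le_rfl (by rwa [pow_one])

theorem isPGroup_T [Finite K] [CharP K 2] : IsPGroup 2 (T Δ) := by
  have := Fintype.ofFinite K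
  have : Fact (Nat.Prime 2) := ⟨Nat.prime_two⟩
  obtain ⟨n, -, hn⟩ := FiniteField.card K 2
  apply IsPGroup.of_card (n := n * 3)
  rw [card_T, Nat.card_eq_fintype_card, hn, pow_mul]

/-- The unitriangular group as a Sylow `2`-subgroup. -/
noncomputable def sylowT [Finite K] [CharP K 2] (Δ : Subgroup Kˣ) : Sylow 2 (GD Δ) :=
  (isPGroup_T (Δ := Δ)).toSylow not_two_dvd_index

theorem coe_sylowT [Finite K] [CharP K 2] (Δ : Subgroup Kˣ) : ((sylowT Δ : Sylow 2 (GD Δ)) : Subgroup (GD Δ)) = T Δ :=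
  rfl

/-- the entries of `g x(a,b,c) g⁻¹` -/
theorem conj_entry_xx (a b c : K) (g : GD Δ) (i j : Fin 3) :
    (g * xx Δ a b c * g⁻¹).1.1 i j = (if i = j then 1 else 0) +
      (g.1.1 i 0 * (a * (g.1⁻¹).1 1 j + c * (g.1⁻¹).1 2 j) + g.1.1 i 1 * (b * (g.1⁻¹).1 2 j)) := by
  have e := mul_entry g.1 g.1⁻¹ i j
  rw [mul_inv_cancel, one_entry] at e
  show (g.1 * (xx Δ a b c).1 * g.1⁻¹).1 i j = _
  rw [mul_entry, mul_entry, mul_entry, mul_entry, e, xx_val]
  simp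
  ring

/-- `N(T)` consists of triangular matrices. -/
theorem up_of_mem_normalizer {g : GD Δ} (hg : g ∈ Subgroup.normalizer (T Δ : Set (GD Δ))) : Up g.1.1 := by
  rw [Subgroup.mem_normalizer_iff] at hg
  have hz := (hg _).1 (xx_mem (Δ := Δ) 0 0 1)
  have hb := (hg _).1 (xx_mem (Δ := Δ) 0 1 0)
  have ha := (hg _).1 (xx_mem (Δ := Δ) 1 0 0)
  have ez : ∀ i j, (g * xx Δ 0 0 1 * g⁻¹).1.1 i j = (if i = j then 1 else 0) + g.1.1 i 0 * (g.1⁻¹).1 2 j :=
    fun i j => by rw [conj_entry_xx]; ring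
  have eb : ∀ i j, (g * xx Δ 0 1 0 * g⁻¹).1.1 i j = (if i = j then 1 else 0) + g.1.1 i 1 * (g.1⁻¹).1 2 j :=
    fun i j => by rw [conj_entry_xx]; ring
  have ea : ∀ i j, (g * xx Δ 1 0 0 * g⁻¹).1.1 i j = (if i = j then 1 else 0) + g.1.1 i 0 * (g.1⁻¹).1 1 j :=
    fun i j => by rw [conj_entry_xx]; ring
  have e22 := mul_entry g.1⁻¹ g.1 2 2
  rw [inv_mul_cancel, one_entry, if_pos rfl] at e22
  have e11 := mul_entry g.1⁻¹ g.1 1 1
  rw [inv_mul_cancel, one_entry, if_pos rfl] at e11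
  -- `g 2 0 = 0`
  have z20 : g.1.1 2 0 * (g.1⁻¹).1 2 0 = 0 := by
    have := ez 2 0; rw [hz.1.2.1, if_neg (by decide)] at this; linear_combination -this
  have z21 : g.1.1 2 0 * (g.1⁻¹).1 2 1 = 0 := by
    have := ez 2 1; rw [hz.1.2.2, if_neg (by decide)] at this; linear_combination -this
  have z22 : g.1.1 2 0 * (g.1⁻¹).1 2 2 = 0 := by
    have := ez 2 2; rw [hz.2, if_pos rfl] at this; linear_combination -this
  have h20 : g.1.1 2 0 = 0 := by
    linear_combination g.1.1 2 0 * e22 + g.1.1 0 2 * z20 + g.1.1 1 2 * z21 + g.1.1 2 2 * z22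
  -- `g 2 1 = 0`
  have b20 : g.1.1 2 1 * (g.1⁻¹).1 2 0 = 0 := by
    have := eb 2 0; rw [hb.1.2.1, if_neg (by decide)] at this; linear_combination -this
  have b21 : g.1.1 2 1 * (g.1⁻¹).1 2 1 = 0 := by
    have := eb 2 1; rw [hb.1.2.2, if_neg (by decide)] at this; linear_combination -this
  have b22 : g.1.1 2 1 * (g.1⁻¹).1 2 2 = 0 := by
    have := eb 2 2; rw [hb.2, if_pos rfl] at this; linear_combination -this
  have h21 : g.1.1 2 1 = 0 := by
    linear_combination g.1.1 2 1 * e22 + g.1.1 0 2 * b20 + g.1.1 1 2 * b21 + g.1.1 2 2 * b22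
  -- `g 1 0 = 0`
  have a10 : g.1.1 1 0 * (g.1⁻¹).1 1 0 = 0 := by
    have := ea 1 0; rw [ha.1.1, if_neg (by decide)] at this; linear_combination -this
  have a11 : g.1.1 1 0 * (g.1⁻¹).1 1 1 = 0 := by
    have := ea 1 1; rw [ha.2, if_pos rfl] at this; linear_combination -this
  have h10 : g.1.1 1 0 = 0 := by
    linear_combination g.1.1 1 0 * e11 + g.1.1 0 1 * a10 + g.1.1 1 1 * a11 +
      g.1.1 1 0 * (g.1⁻¹).1 1 2 * h21
  exact ⟨h10, h20, h21⟩

theorem mem_normalizer_T_iff {g : GD Δ} : g ∈ Subgroup.normalizer (T Δ : Set (GD Δ)) ↔ Up g.1.1 :=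
  ⟨up_of_mem_normalizer, up_mem_normalizer⟩

end Cfsg.Agent.H971.GDSylow
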