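import Cfsg.Agent.H971.OutTwoFam
import Cfsg.Agent.H971.OutTwoRgd

/-!
# Outer automorphism groups of the known simple groups: derived length two up to index two
-/

set_option autoImplicit false

namespace Cfsg.Agent.H971.OutTwo

open Cfsg Cfsg.Agent.H936

open scoped commutatorElement

theorem dt_isPSp {G : Type*} [Group G] (h : IsPSp G) : DT G := by
  obtain ⟨F, _, _, m, hm, h2, ⟨e⟩⟩ := h
  exact DT.of_equiv e.symm (dt_psp hm fun h3 => by
    rw [Nat.card_eq_fintype_card]; exact h2 h3)

theorem dt_pomegaOdd {G : Type*} [Group G] (h : IsPOmegaOdd G) : DT G := by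
  obtain ⟨F, _, _, m, hm, hodd, ⟨e⟩⟩ := h
  exact DT.of_equiv e.symm (dt_odd hm
    (Cfsg.Agent.LieClassical.PomegaCard.odd_card_iff.1 hodd))

theorem dt_pomegaPlus {G : Type*} [Group G] (h : IsPOmegaPlus G) : DT G := by
  obtain ⟨F, _, _, m, hm, ⟨e⟩⟩ := h
  exact DT.of_equiv e.symm (dt_plus' hm)

theorem dt_pomegaMinus {G : Type*} [Group G] (h : IsPOmegaMinus G) : DT G := by
  obtain ⟨F, _, _, m, a, b, hm, hab, ⟨e⟩⟩ := h
  exact DT.of_equiv e.symm (dt_minus hm a b hab)

/-- **`Aut K` has a subgroup `A` containing all squares with `A'' ≤ Inn K`**, for all known non-abelian finite simple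
groups `K`. -/
theorem dt_known {G : Type*} [Group G] (hG : ¬ IsMulCommutative G) (h : IsKnownSimple' G) : DT G := by
  rcases h with h | h | h | h | h | h | h | h | h | h
  · exfalso
    apply hG
    have h1 : Fact (Nat.card G).Prime := ⟨h⟩
    have h2 : IsCyclic G := isCyclic_of_prime_card (p := Nat.card G) rfl
    exact IsCyclic.isMulCommutative
  · exact .of_ds (ds_alt h)
  · exact .of_ds (ds_isPSL h)
  · exact dt_isPSp h
  · exact .of_ds (ds_isPSU h)
  · exact dt_pomegaOdd h
  · exact dt_pomegaPlus h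
  · exact dt_pomegaMinus h
  · rcases h with h | h | h | h | h | h | h | h | h | h | h
    · exact dt_chevG2 h
    · exact dt_f4 h
    · exact dt_e6 h
    · exact dt_e7 h
    · exact dt_e8 h
    · exact dt_2e6 h
    · exact dt_3d4 h
    · exact .of_ds ((ds_suzuki h).mono (by norm_num))
    · exact .of_ds ((ds_ree h).mono (by norm_num))
    · exact .of_ds ((ds_2f4 h).mono (by norm_num))
    · exact .of_ds ((ds_tits h).mono (by norm_num))
  · exact .of_ds ((ds_sporadic h).mono (by norm_num))

/-- **Two `2`-elements commute modulo `M`**, if `X` has no subgroup of index two. -/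
theorem two_comm_of_known {X : Type*} [Group X] [Finite X] (hno : ∀ H : Subgroup X, H.index ≠ 2)
    (M : Subgroup X) [M.Normal] (hM : IsKnownSimple' ↥M) (hna : ¬ IsMulCommutative ↥M)
    (hC : Subgroup.centralizer (M : Set X) = ⊥)
    (a b : X) (ha : ∃ k, a ^ 2 ^ k = 1) (hb : ∃ k, b ^ 2 ^ k = 1) : ⁅a, b⁆ ∈ M :=
  comm_of_dt hno M hC (dt_known hna hM) a b ha hb

end Cfsg.Agent.H971.OutTwo
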