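import Cfsg.Agent.H936.DSBase

/-!
# Outer automorphism groups: derived length two up to index two

`DT K` : some subgroup `A` of `Aut K` containing all squares has its second derived subgroup inside `Inn K`.  Then
in every group `X` without subgroups of index two having `K` as a normal subgroup with trivial centralizer any two
`2`-elements commute modulo `K`.
-/

set_option autoImplicit false

namespace Cfsg.Agent.H971.OutTwo

open Cfsg.Agent.H936

open scoped commutatorElement

/-- Some subgroup of `Aut K` containing all squares has its second derived subgroup inside `Inn K`. -/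
def DT (K : Type*) [Group K] : Prop :=
  ∃ A : Subgroup (MulAut K), (∀ α : MulAut K, α * α ∈ A) ∧
    ⁅⁅A, A⁆, ⁅A, A⁆⁆ ≤ (MulAut.conj : K →* MulAut K).range

theorem DT.of_ds {K : Type*} [Group K] (h : DS 2 K) : DT K := by
  refine ⟨⊤, fun _ => trivial, ?_⟩
  unfold DS at h
  rwa [derivedSeries_succ, derivedSeries_succ, derivedSeries_zero] at h

/-- Working modulo a normal subgroup of inner automorphisms. -/
theorem dt_of_quotient {K : Type*} [Group K] (I : Subgroup (MulAut K)) [I.Normal]
    (hI : I ≤ (MulAut.conj : K →* MulAut K).range) (A : Subgroup (MulAut K ⧸ I))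
    (hsq : ∀ x : MulAut K ⧸ I, x * x ∈ A) (h : ⁅⁅A, A⁆, ⁅A, A⁆⁆ = ⊥) : DT K := by
  have hs := QuotientGroup.mk'_surjective I
  refine ⟨A.comap (QuotientGroup.mk' I), fun α => ?_, ?_⟩
  · rw [Subgroup.mem_comap, map_mul]
    exact hsq _
  · have h1 : (⁅⁅A.comap (QuotientGroup.mk' I), A.comap (QuotientGroup.mk' I)⁆,
        ⁅A.comap (QuotientGroup.mk' I), A.comap (QuotientGroup.mk' I)⁆⁆).map (QuotientGroup.mk' I) = ⊥ := by
      rw [Subgroup.map_commutator, Subgroup.map_commutator, Subgroup.map_comap_eq_self_of_surjective hs]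
      exact h
    rw [Subgroup.map_eq_bot_iff, QuotientGroup.ker_mk'] at h1
    exact h1.trans hI

/-- **Main criterion.** -/
theorem dt_of_hom {K B : Type*} [Group K] [Group B] (f : B →* MulAut K) (A : Subgroup B)
    (hs : ∀ α : MulAut K, ∃ k : K, ∃ a : B, α = MulAut.conj k * f a) (hsq : ∀ b : B, b * b ∈ A)
    (h : (⁅⁅A, A⁆, ⁅A, A⁆⁆).map f ≤ (MulAut.conj : K →* MulAut K).range) : DT K := by
  have hI := conj_range_normal K
  set I : Subgroup (MulAut K) := (MulAut.conj : K →* MulAut K).range with hIdef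
  have hsurj : Function.Surjective ((QuotientGroup.mk' I).comp f) := by
    intro x
    obtain ⟨α, rfl⟩ := QuotientGroup.mk'_surjective I x
    obtain ⟨k, a, rfl⟩ := hs α
    refine ⟨a, ?_⟩
    rw [map_mul, MonoidHom.comp_apply]
    have : QuotientGroup.mk' I (MulAut.conj k) = 1 := (QuotientGroup.eq_one_iff _).2 ⟨k, rfl⟩
    rw [this, one_mul]
  refine dt_of_quotient I le_rfl (A.map ((QuotientGroup.mk' I).comp f)) (fun x => ?_) ?_
  · obtain ⟨b, rfl⟩ := hsurj x
    exact ⟨b * b, hsq b, map_mul _ _ _⟩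
  · rw [← Subgroup.map_commutator, ← Subgroup.map_commutator, ← Subgroup.map_map, Subgroup.map_eq_bot_iff,
      QuotientGroup.ker_mk']
    exact h

theorem dt_of_surj {K B : Type*} [Group K] [Group B] (f : B →* MulAut K) (A : Subgroup B)
    (hs : Function.Surjective f) (hsq : ∀ b : B, b * b ∈ A)
    (h : (⁅⁅A, A⁆, ⁅A, A⁆⁆).map f ≤ (MulAut.conj : K →* MulAut K).range) : DT K :=
  dt_of_hom f A (fun α => by
    obtain ⟨a, rfl⟩ := hs α
    exact ⟨1, a, by rw [map_one, one_mul]⟩) hsq h

/-- A homomorphism with image of index at most two. -/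
theorem dt_of_index_two {K A : Type*} [Group K] [Group A] (f : A →* MulAut K)
    (hi : f.range.index ≠ 0) (hi2 : f.range.index ≤ 2)
    (h : (derivedSeries A 2).map f ≤ (MulAut.conj : K →* MulAut K).range) : DT K := by
  refine ⟨f.range, fun α => ?_, ?_⟩
  · rcases Nat.lt_or_ge f.range.index 2 with h2 | h2
    · have h3 : f.range.index = 1 := by omega
      rw [Subgroup.index_eq_one] at h3
      rw [h3]; trivial
    · exact Subgroup.mul_self_mem_of_index_two (by omega) α
  · rw [derivedSeries_succ, derivedSeries_succ, derivedSeries_zero, Subgroup.map_commutator,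
      Subgroup.map_commutator, ← MonoidHom.range_eq_map] at h
    exact h

/-- Invariance under isomorphisms. -/
theorem DT.of_equiv {K L : Type*} [Group K] [Group L] (e : K ≃* L) (h : DT K) : DT L := by
  obtain ⟨A, hsq, hA⟩ := h
  let E : MulAut K →* MulAut L := (MulAut.congr e).toMonoidHom
  have hE : Function.Surjective E := (MulAut.congr e).surjective
  refine ⟨A.map E, fun α => ?_, ?_⟩
  · obtain ⟨β, rfl⟩ := hE α
    exact ⟨β * β, hsq β, map_mul _ _ _⟩
  · rw [← Subgroup.map_commutator, ← Subgroup.map_commutator, Subgroup.map_le_iff_le_comap]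
    intro φ hφ
    obtain ⟨k, hk⟩ := hA hφ
    refine ⟨e k, ?_⟩
    ext x
    rw [← hk]
    simp [E, MulAut.congr]

theorem top_of_sq {X : Type*} [Group X] [Finite X] (M : Subgroup X) [hM : M.Normal] (h : ∀ x, x * x ∈ M)
    (hno : ∀ K : Subgroup X, K.index ≠ 2) : M = ⊤ := by
  by_contra hne
  have : Fact (Nat.Prime 2) := ⟨Nat.prime_two⟩
  have hp : IsPGroup 2 (X ⧸ M) := by
    intro x
    obtain ⟨x, rfl⟩ := QuotientGroup.mk'_surjective M x
    refine ⟨1, ?_⟩
    rw [pow_one, pow_two, ← map_mul]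
    exact (QuotientGroup.eq_one_iff _).2 (h x)
  obtain ⟨n, hn⟩ := hp.exists_card_eq
  have hn0 : n ≠ 0 := by
    rintro rfl
    rw [pow_zero] at hn
    apply hne
    rw [← Subgroup.index_eq_one, Subgroup.index]
    exact hn
  obtain ⟨H, hH⟩ := Sylow.exists_subgroup_card_pow_prime 2 (G := X ⧸ M) (n := n - 1)
    (by rw [hn]; exact pow_dvd_pow 2 (by omega))
  have hi : H.index = 2 := by
    have h1 := H.card_mul_index
    rw [hn, hH] at h1
    have h2 : 2 ^ n = 2 ^ (n - 1) * 2 := by rw [← pow_succ]; congr 1; omega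
    rw [h2] at h1
    exact Nat.eq_of_mul_eq_mul_left (by positivity) h1
  refine hno (H.comap (QuotientGroup.mk' M)) ?_
  rw [Subgroup.index_comap_of_surjective _ (QuotientGroup.mk'_surjective M), hi]

/-- `2`-elements lie in the derived subgroup. -/
theorem mem_commutator_of_two {X : Type*} [Group X] [Finite X] (hno : ∀ K : Subgroup X, K.index ≠ 2)
    {a : X} (ha : ∃ k, a ^ 2 ^ k = 1) : a ∈ ⁅(⊤ : Subgroup X), (⊤ : Subgroup X)⁆ := by
  let S : Subgroup X := ((powMonoidHom 2 : Abelianization X →* Abelianization X).range).comap Abelianization.of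
  have hS : S.Normal := by
    have : ((powMonoidHom 2 : Abelianization X →* Abelianization X).range).Normal := inferInstance
    exact this.comap _
  have htop : S = ⊤ := top_of_sq S (fun x => by
    change Abelianization.of (x * x) ∈ (powMonoidHom 2 : Abelianization X →* Abelianization X).range
    refine ⟨Abelianization.of x, ?_⟩
    rw [map_mul, powMonoidHom_apply, pow_two]) hno
  have hsurj : Function.Surjective (powMonoidHom 2 : Abelianization X →* Abelianization X) := by
    intro y
    obtain ⟨x, rfl⟩ := QuotientGroup.mk_surjective y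
    have hx : x ∈ S := by rw [htop]; trivial
    obtain ⟨z, hz⟩ := hx
    exact ⟨z, hz⟩
  have hfin : Finite (Abelianization X) := inferInstanceAs (Finite (X ⧸ commutator X))
  have hinj : Function.Injective (powMonoidHom 2 : Abelianization X →* Abelianization X) :=
    Finite.injective_iff_surjective.2 hsurj
  obtain ⟨k, hk⟩ := ha
  have h1 : (Abelianization.of a) ^ 2 ^ k = 1 := by rw [← map_pow, hk, map_one]
  have h2 : ∀ (k : ℕ) (z : Abelianization X), z ^ 2 ^ k = 1 → z = 1 := by
    intro k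
    induction k with
    | zero => intro z hz; simpa using hz
    | succ k ih =>
      intro z hz
      have h3 : z ^ 2 ^ k = 1 := by
        apply hinj
        rw [powMonoidHom_apply, powMonoidHom_apply, ← pow_mul, ← pow_succ, hz, one_pow]
      exact ih z h3
  have h3 := h2 k _ h1
  have h4 : a ∈ commutator X := (QuotientGroup.eq_one_iff a).1 h3
  exact h4

/-- **Two `2`-elements commute modulo `K`.** -/
theorem comm_of_dt {X : Type*} [Group X] [Finite X] (hno : ∀ H : Subgroup X, H.index ≠ 2)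
    (M : Subgroup X) [M.Normal] (hC : Subgroup.centralizer (M : Set X) = ⊥) (hM : DT ↥M)
    (a b : X) (ha : ∃ k, a ^ 2 ^ k = 1) (hb : ∃ k, b ^ 2 ^ k = 1) : ⁅a, b⁆ ∈ M := by
  obtain ⟨A, hsq, hA⟩ := hM
  let c : X →* MulAut ↥M := MulAut.conjNormal
  have hn : (A.comap c).Normal := by
    have h0 : A.Normal := by
      constructor
      intro x hx g
      have h1 : g * x * g⁻¹ = (g * g) * ((g⁻¹ * x) * (g⁻¹ * x)) * x⁻¹ := by group
      rw [h1]
      exact A.mul_mem (A.mul_mem (hsq _) (hsq _)) (A.inv_mem hx)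
    exact h0.comap c
  have htop : A.comap c = ⊤ := top_of_sq _ (fun x => by
    rw [Subgroup.mem_comap, map_mul]; exact hsq _) hno
  have hle : (⊤ : Subgroup X).map c ≤ A := by
    rw [Subgroup.map_le_iff_le_comap, htop]
  have h1 : ⁅a, b⁆ ∈ ⁅⁅(⊤ : Subgroup X), (⊤ : Subgroup X)⁆, ⁅(⊤ : Subgroup X), (⊤ : Subgroup X)⁆⁆ :=
    Subgroup.commutator_mem_commutator (mem_commutator_of_two hno ha) (mem_commutator_of_two hno hb)
  have h2 : c ⁅a, b⁆ ∈ (MulAut.conj : ↥M →* MulAut ↥M).range := by
    apply hA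
    have h3 : c ⁅a, b⁆ ∈ (⁅⁅(⊤ : Subgroup X), (⊤ : Subgroup X)⁆, ⁅(⊤ : Subgroup X), (⊤ : Subgroup X)⁆⁆).map c :=
      ⟨_, h1, rfl⟩
    rw [Subgroup.map_commutator, Subgroup.map_commutator] at h3
    exact Subgroup.commutator_mono (Subgroup.commutator_mono hle hle) (Subgroup.commutator_mono hle hle) h3
  obtain ⟨m, hm⟩ := h2
  have h4 : (m : X)⁻¹ * ⁅a, b⁆ ∈ Subgroup.centralizer (M : Set X) := by
    rw [Subgroup.mem_centralizer_iff]
    intro x hx
    have h5 := congrArg (Subtype.val) (DFunLike.congr_fun hm ⟨x, hx⟩)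
    change (m : X) * x * (m : X)⁻¹ = ⁅a, b⁆ * x * ⁅a, b⁆⁻¹ at h5
    calc x * ((m : X)⁻¹ * ⁅a, b⁆) = (m : X)⁻¹ * ((m : X) * x * (m : X)⁻¹) * ⁅a, b⁆ := by group
      _ = (m : X)⁻¹ * (⁅a, b⁆ * x * ⁅a, b⁆⁻¹) * ⁅a, b⁆ := by rw [h5]
      _ = (m : X)⁻¹ * ⁅a, b⁆ * x := by group
  rw [hC, Subgroup.mem_bot, inv_mul_eq_one] at h4
  rw [← h4]
  exact m.2

end Cfsg.Agent.H971.OutTwo
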