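import Cfsg.Agent.H936.DSAll
import Cfsg.Agent.H971.OutTwoBase

/-!
# `DT` for the classical groups
-/

set_option autoImplicit false

namespace Cfsg.Agent.H971.OutTwo

open Cfsg.Agent.H936

open scoped commutatorElement

section POmega

open Cfsg.Agent.Schreier.Basic Cfsg.Agent.Schreier.ClassBase Cfsg.Agent.Schreier.ClassPOmega
open QuadraticMap Cfsg.Agent.LieClassical.OrthCore Cfsg.Agent.LieClassical.OrthTrans
  Cfsg.Agent.LieClassical.OrthSimple Cfsg.Agent.LieClassical.OrthForms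
  Cfsg.Agent.ClassicalGeometry.OrthSemi Cfsg.Agent.ClassicalGeometry.OrthSemiForms

section general

variable {F V : Type*} [Field F] [AddCommGroup V] [Module F V] {Q : QuadraticForm F V}

theorem isSquare_map {F : Type*} [Field F] (φ : F ≃+* F) {l : F} : IsSquare (φ l) ↔ IsSquare l := by
  constructor
  · intro h
    have := h.map φ.symm
    simpa using this
  · exact fun h => h.map φ

theorem isSquare_mul_map {F : Type*} [Field F] [Finite F] (φ : F ≃+* F) (l : F) : IsSquare (l * φ l) := by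
  have := Fintype.ofFinite F
  by_cases h : IsSquare l
  · exact h.mul ((isSquare_map φ).2 h)
  · by_cases h2 : ringChar F = 2
    · exact absurd (FiniteField.isSquare_of_char_two h2 l) h
    · have h3 : ¬ IsSquare (φ l) := fun h3 => h ((isSquare_map φ).1 h3)
      classical
      have hl : l ≠ 0 := by rintro rfl; exact h (IsSquare.zero)
      have hl' : φ l ≠ 0 := by simpa using hl
      have h4 := quadraticChar_neg_one_iff_not_isSquare.2 h
      have h5 := quadraticChar_neg_one_iff_not_isSquare.2 h3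
      rw [← quadraticChar_one_iff_isSquare (mul_ne_zero hl hl'), map_mul, h4, h5]
      norm_num

/-- Semisimilitudes with a square multiplier. -/
def sqsim (Q : QuadraticForm F V) : Subgroup (Gam Q) where
  carrier := {g | ∃ (φ : F ≃+* F) (l : F), IsSquare l ∧ IsSS Q φ l g.1}
  mul_mem' := by
    rintro g h ⟨φ, l, hl, hg⟩ ⟨ψ, k, hk, hh⟩
    exact ⟨_, _, hl.mul ((isSquare_map φ).2 hk), hg.mul hh⟩
  one_mem' := ⟨RingEquiv.refl F, 1, IsSquare.one, one_ne_zero, fun _ _ => rfl, fun _ _ => rfl, fun _ => by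
    rw [one_mul]; rfl⟩
  inv_mem' := by
    rintro g ⟨φ, l, hl, hg⟩
    exact ⟨_, _, (isSquare_map φ.symm).2 hl.inv, hg.inv⟩

theorem mul_self_mem_sqsim [Finite F] (g : Gam Q) : g * g ∈ sqsim Q := by
  obtain ⟨φ, l, hg⟩ := g.2
  exact ⟨_, _, isSquare_mul_map φ l, hg.mul hg⟩

/-- Scalar multiples of isometries. -/
def scis (Q : QuadraticForm F V) : Subgroup (Gam Q) where
  carrier := {g | ∃ c : F, IsSS Q (RingEquiv.refl F) (c * c) g.1}
  mul_mem' := by
    rintro g h ⟨l, hg⟩ ⟨k, hh⟩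
    refine ⟨l * k, ?_⟩
    have := hg.mul hh
    rwa [show l * l * (RingEquiv.refl F) (k * k) = l * k * (l * k) by
      change l * l * (k * k) = l * k * (l * k); ring] at this
  one_mem' := ⟨1, by rw [mul_one]; exact one_ne_zero, fun _ _ => rfl, fun _ _ => rfl, fun _ => by
    rw [one_mul, one_mul]; rfl⟩
  inv_mem' := by
    rintro g ⟨l, hg⟩
    refine ⟨l⁻¹, ?_⟩
    have := hg.inv
    rw [mul_inv] at this
    exact this

theorem commutator_sqsim [Finite F] : ⁅sqsim Q, sqsim Q⁆ ≤ scis Q := by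
  rw [Subgroup.commutator_le]
  rintro ⟨g, hg0⟩ ⟨φ, l, ⟨a, rfl⟩, hg⟩ ⟨h, hh0⟩ ⟨ψ, k, ⟨b, rfl⟩, hh⟩
  refine ⟨a * φ b * ψ a⁻¹ * b⁻¹, ?_⟩
  have h1 := IsSS.comm hg hh
  rwa [show a * a * φ (b * b) * ψ (a * a)⁻¹ * (b * b)⁻¹ =
    a * φ b * ψ a⁻¹ * b⁻¹ * (a * φ b * ψ a⁻¹ * b⁻¹) by
      rw [mul_inv, mul_inv, map_mul, map_mul]; ring] at h1

/-- A scalar multiple of an isometry as a linear map. -/
theorem exists_lin_scis {g : Gam Q} (hg : g ∈ scis Q) :
    ∃ c : F, c ≠ 0 ∧ ∃ n : V ≃ₗ[F] V, n ∈ O Q ∧ ∀ v, g.1 v = c • n v := by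
  obtain ⟨c, hg'⟩ := hg
  have hc : c ≠ 0 := by
    rintro rfl
    exact hg'.ne (mul_zero _)
  have hsm : ∀ (t : F) (v : V), g.1 (t • v) = t • g.1 v := fun t v => hg'.smul t v
  refine ⟨c, hc,
    { toFun := fun v => c⁻¹ • g.1 v
      invFun := fun v => g.1.symm (c • v)
      map_add' := fun v w => by rw [hg'.add, smul_add]
      map_smul' := fun t v => by
        rw [hsm, smul_comm]; rfl
      left_inv := fun v => by
        change g.1.symm (c • c⁻¹ • g.1 v) = v
        rw [smul_inv_smul₀ hc, Equiv.symm_apply_apply]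
      right_inv := fun v => by
        change c⁻¹ • g.1 (g.1.symm (c • v)) = v
        rw [Equiv.apply_symm_apply, inv_smul_smul₀ hc] }, ?_, fun v => ?_⟩
  · intro v
    change Q (c⁻¹ • g.1 v) = Q v
    rw [QuadraticMap.map_smul, hg'.form]
    change (c⁻¹ * c⁻¹) • (c * c * Q v) = Q v
    rw [smul_eq_mul]
    field_simp
  · change g.1 v = c • c⁻¹ • g.1 v
    rw [smul_inv_smul₀ hc]

theorem comm_inner [Finite F] [FiniteDimensional F V] (hG : Good Q) {g h : Gam Q} (hg : g ∈ scis Q)
    (hh : h ∈ scis Q) : Psi Q ⁅g, h⁆ ∈ (MulAut.conj : ↥(E Q) ⧸ Subgroup.center ↥(E Q) →* _).range := by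
  obtain ⟨c, hc, m, hm, hgm⟩ := exists_lin_scis hg
  obtain ⟨d, hd, n, hn, hhn⟩ := exists_lin_scis hh
  refine Psi_E (h := ⁅m, n⁆) (hG.commutator_le_E (Subgroup.commutator_mem_commutator hm hn)) ?_
  intro v
  have hgi : ∀ v, g.1⁻¹ v = c⁻¹ • m.symm v := by
    intro v
    apply g.1.injective
    rw [apply_inv, hgm, map_smul, LinearEquiv.apply_symm_apply, smul_inv_smul₀ hc]
  have hhi : ∀ v, h.1⁻¹ v = d⁻¹ • n.symm v := by
    intro v
    apply h.1.injective
    rw [apply_inv, hhn, map_smul, LinearEquiv.apply_symm_apply, smul_inv_smul₀ hd]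
  change g.1 (h.1 (g.1⁻¹ (h.1⁻¹ v))) = m (n (m.symm (n.symm v)))
  rw [hgm, hhn, hgi, hhi]
  simp only [map_smul, smul_smul]
  rw [show c * (d * (c⁻¹ * d⁻¹)) = 1 by field_simp, one_smul]

theorem dt_of_surjective [Finite F] [FiniteDimensional F V] (hG : Good Q)
    (hs : Function.Surjective (Psi Q)) : DT (↥(E Q) ⧸ Subgroup.center ↥(E Q)) := by
  refine dt_of_surj (Psi Q) (sqsim Q) hs mul_self_mem_sqsim ?_
  rw [Subgroup.map_le_iff_le_comap]
  refine (Subgroup.commutator_mono commutator_sqsim commutator_sqsim).trans ?_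
  rw [Subgroup.commutator_le]
  exact fun g hg h hh => comm_inner hG hg hh

end general

variable {F : Type*} [Field F] [Finite F]

theorem dt_odd {m : ℕ} (hm : 3 ≤ m) (h2 : (2 : F) ≠ 0) :
    DT (Cfsg.POmega F (Cfsg.quadFormOdd m F)) := by
  have := Fintype.ofFinite F
  have hG := good_odd (F := F) (m := m) (by omega) h2
  have h1 := dt_of_surjective hG (Cfsg.Agent.AutOrth.Final.surjective_odd hm h2)
  have h3 := DT.of_equiv (pomegaEquiv hG).symm h1
  rwa [coe_oddForm] at h3

theorem dt_plus {m : ℕ} (hm : 5 ≤ m) : DT (Cfsg.POmega F (Cfsg.quadFormPlus m F)) := by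
  have := Fintype.ofFinite F
  have hG := good_plus (F := F) (m := m) (by omega)
  have h1 := dt_of_surjective hG (Cfsg.Agent.AutOrth.Final.surjective_plus hm)
  have h3 := DT.of_equiv (pomegaEquiv hG).symm h1
  rwa [coe_plusForm] at h3

theorem dt_minus {m : ℕ} (hm : 4 ≤ m) (a b : F)
    (hab : ∀ z₁ z₂ : F, z₁ ^ 2 + a * z₁ * z₂ + b * z₂ ^ 2 = 0 → z₁ = 0 ∧ z₂ = 0) :
    DT (Cfsg.POmega F (Cfsg.quadFormMinus (m - 1) F a b)) := by
  have := Fintype.ofFinite F
  have hG := good_minus (F := F) (m := m - 1) (by omega) a b hab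
  have h1 := dt_of_surjective hG (Cfsg.Agent.AutOrth.Final.surjective_minus (by omega) hab)
  have h3 := DT.of_equiv (pomegaEquiv hG).symm h1
  rwa [coe_minusForm] at h3

theorem dt_of_out_equiv {K A : Type*} [Group K] [Group A] (e : Cfsg.Out K ≃* A) (N : Subgroup A)
    (hsq : ∀ x : A, x * x ∈ N) (h : ⁅⁅N, N⁆, ⁅N, N⁆⁆ = ⊥) : DT K := by
  refine dt_of_quotient (Cfsg.Inn K) le_rfl (N.comap e.toMonoidHom) (fun x => ?_) ?_
  · rw [Subgroup.mem_comap, map_mul]
    exact hsq _
  · have hs : Function.Surjective e.toMonoidHom := e.surjective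
    have h1 : (⁅⁅N.comap e.toMonoidHom, N.comap e.toMonoidHom⁆,
        ⁅N.comap e.toMonoidHom, N.comap e.toMonoidHom⁆⁆).map e.toMonoidHom = ⊥ := by
      rw [Subgroup.map_commutator, Subgroup.map_commutator, Subgroup.map_comap_eq_self_of_surjective hs]
      exact h
    rw [Subgroup.map_eq_bot_iff] at h1
    have h2 : e.toMonoidHom.ker = ⊥ := (MonoidHom.ker_eq_bot_iff _).2 e.injective
    rw [h2] at h1
    exact le_bot_iff.1 h1

/-- `PΩ₈⁺(q)`. -/
theorem dt_plus_four : DT (Cfsg.POmega F (Cfsg.quadFormPlus 4 F)) := by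
  have := Fintype.ofFinite F
  obtain ⟨p, hp⟩ := CharP.exists F
  have hprime : Fact p.Prime := ⟨CharP.char_is_prime F p⟩
  obtain ⟨f, -, hf⟩ := FiniteField.card F p
  by_cases h2 : p = 2
  · subst h2
    have h := Cfsg.Agent.S2607.result (F := F) (f := f) (m := 4) f.pos hf le_rfl
    rw [if_pos rfl] at h
    obtain ⟨e⟩ := h
    refine DT.of_ds (ds_of_out_bot ?_)
    exact derivedSeries_eq_bot_of_equiv e (derivedSeries_prod_eq_bot (derivedSeries_perm_three (by norm_num))
      (derivedSeries_comm (fun a b => mul_comm a b) (by norm_num)))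
  · have h := Cfsg.Agent.S2608.result (F := F) (p := p) (f := f) (m := 4) f.pos hf h2 le_rfl
    rw [if_pos rfl] at h
    obtain ⟨e⟩ := h
    let s : Equiv.Perm (Fin 4) × Multiplicative (ZMod f) →* ℤˣ :=
      (Equiv.Perm.sign : Equiv.Perm (Fin 4) →* ℤˣ).comp (MonoidHom.fst _ _)
    refine dt_of_out_equiv e s.ker (fun x => ?_) ?_
    · rw [MonoidHom.mem_ker, map_mul]
      exact Int.units_mul_self _
    · have h1 : ⁅s.ker, s.ker⁆ ≤ vfour.comap (MonoidHom.fst (Equiv.Perm (Fin 4)) (Multiplicative (ZMod f))) := by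
        rw [Subgroup.commutator_le]
        intro a ha b hb
        have : ∀ a b : Equiv.Perm (Fin 4), Equiv.Perm.sign a = 1 → Equiv.Perm.sign b = 1 →
            (Equiv.Perm.sign (a * b * a⁻¹ * b⁻¹) = 1 ∧ (a * b * a⁻¹ * b⁻¹) * (a * b * a⁻¹ * b⁻¹) = 1) := by
          decide +kernel
        exact this a.1 b.1 ha hb
      rw [eq_bot_iff, Subgroup.commutator_le]
      intro a ha b hb
      have ha1 : a.1 ∈ vfour := h1 ha
      have hb1 : b.1 ∈ vfour := h1 hb
      rw [Subgroup.mem_bot, commutatorElement_eq_one_iff_mul_comm]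
      refine Prod.ext ?_ (mul_comm a.2 b.2)
      change a.1 * b.1 = b.1 * a.1
      have h3 := vfour.mul_mem ha1 hb1
      have h4 : a.1 * b.1 * (a.1 * b.1) = 1 := h3.2
      have ha' : a.1 * a.1 = 1 := ha1.2
      have hb' : b.1 * b.1 = 1 := hb1.2
      calc a.1 * b.1 = a.1 * (a.1 * b.1 * (a.1 * b.1)) * b.1 := by rw [h4, mul_one]
        _ = (a.1 * a.1) * (b.1 * a.1) * (b.1 * b.1) := by group
        _ = b.1 * a.1 := by rw [ha', hb', one_mul, mul_one]

theorem dt_plus' {m : ℕ} (hm : 4 ≤ m) : DT (Cfsg.POmega F (Cfsg.quadFormPlus m F)) := by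
  rcases Nat.lt_or_ge m 5 with h | h
  · obtain rfl : m = 4 := by omega
    exact dt_plus_four
  · exact dt_plus h

end POmega

section PSp

open Cfsg Cfsg.Agent.Schreier.Basic Cfsg.Agent.Schreier.ClassBase Cfsg.Agent.Schreier.ClassPSp
open Cfsg.Agent.ClassicalGeometry.SympAutSemi

variable {m : ℕ} {F : Type*} [Field F] [Finite F]

/-- `PSp m F`. -/
theorem dt_psp (hm : 2 ≤ m) (h22 : m = 2 → 3 ≤ Nat.card F) : DT (PSp m F) := by
  have := Fintype.ofFinite F
  have hB : ∀ α : MulAut (PSp m F), Cfsg.Agent.ClassicalGeometry.AutPSpCount.Pres α →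
      α ∈ (Psi m F).range := by
    intro α hα
    obtain ⟨g, hg⟩ := Cfsg.Agent.ClassicalGeometry.SympAutExists.exists_semi hm α hα
    exact ⟨g, hg⟩
  have hidx : (Psi m F).range.index ≠ 0 ∧ (Psi m F).range.index ≤ 2 := by
    by_cases hcase : m = 2 ∧ (2 : F) = 0
    · obtain ⟨rfl, h2⟩ := hcase
      have hchar : CharP F 2 := by
        obtain ⟨p, hp⟩ := CharP.exists F
        have h3 : p ∣ 2 := (CharP.cast_eq_zero_iff F p 2).1 (by exact_mod_cast h2)
        have h4 : p.Prime := CharP.char_is_prime F p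
        rwa [(Nat.prime_dvd_prime_iff_eq h4 Nat.prime_two).1 h3] at hp
      have ht : ∃ t : F, t ≠ 0 ∧ t ≠ 1 := by
        by_contra hcon
        push Not at hcon
        have h3 : Fintype.card F ≤ 2 := by
          classical
          have : (Finset.univ : Finset F) ⊆ {0, 1} := by
            intro t _
            by_cases h0 : t = 0
            · simp [h0]
            · simp [hcon t h0]
          exact (Finset.card_le_card this).trans (Finset.card_le_two)
        have h4 := h22 rfl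
        rw [Nat.card_eq_fintype_card] at h4
        omega
      rw [Cfsg.Agent.ClassicalGeometry.SympAutTwo.index_two ht hB]
      exact ⟨by norm_num, by norm_num⟩
    · have htop : (Psi m F).range = ⊤ := by
        rw [eq_top_iff]
        intro α _
        apply hB
        refine Cfsg.Agent.ClassicalGeometry.SympAutOddA.recog hm ?_ α
        by_cases hm2 : m = 2
        · right
          intro h2
          exact hcase ⟨hm2, h2⟩
        · left; omega
      rw [htop, Subgroup.index_top]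
      exact ⟨by norm_num, by norm_num⟩
  refine dt_of_index_two (Psi m F) hidx.1 hidx.2 ?_
  rw [Subgroup.map_le_iff_le_comap]
  exact fun g hg => Psi_isom (derived_two hg)

end PSp

end Cfsg.Agent.H971.OutTwo
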