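import Cfsg.Agent.H971.OutTwo
import Cfsg.Agent.S0000

/-!
# Almost simple groups without subgroups of index two: `2`-elements commute modulo the socle
-/

set_option autoImplicit false

namespace Cfsg.Agent.H971.OutTwo

open scoped commutatorElement

universe u

/-- **Two `2`-elements of `X` commute modulo the normal non-abelian simple subgroup `M` with trivial centralizer**, if
`X` has no subgroup of index two. -/
theorem two_comm {X : Type u} [Group X] [Finite X] (hno : ∀ H : Subgroup X, H.index ≠ 2)
    (M : Subgroup X) [M.Normal] [IsSimpleGroup M] (hna : ¬ IsMulCommutative M)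
    (hC : Subgroup.centralizer (M : Set X) = ⊥) (a b : X) (ha : ∃ k, a ^ 2 ^ k = 1) (hb : ∃ k, b ^ 2 ^ k = 1) :
    ⁅a, b⁆ ∈ M :=
  two_comm_of_known hno M Cfsg.Agent.S0000.result hna hC a b ha hb

end Cfsg.Agent.H971.OutTwo
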