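import Cfsg.Agent.H780.TwoDefs
import Cfsg.Agent.H131.ExtTransfer
import Cfsg.Agent.H971.GDSylow

/-!
# The extension of `GD Δ` by `Z₁` containing `S` (task S5260-R1)
-/

set_option autoImplicit false

universe u v w

namespace Cfsg.Agent.H971.SpExt

open Cfsg Cfsg.FusionSystem Cfsg.Agent.H780 Cfsg.Agent.H454.AlperinGL3 Cfsg.Agent.H971.GDSylow
open Matrix

variable {Ω : Type u} [Group Ω] {S : Subgroup Ω} {K : Type v} [Field K]

/-- `π : S → GD Δ`. -/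
noncomputable def pi (C : SpC S K) (Δ : Subgroup Kˣ) : ↥S →* GD Δ :=
  MonoidHom.mk' (fun x => xx Δ (C.t x) (C.s x) (C.u x)) (by
    intro x y
    have h := T_mul (xx_mem (Δ := Δ) (C.t x) (C.s x) (C.u x)) (xx_mem (Δ := Δ) (C.t y) (C.s y) (C.u y))
    refine T_ext (xx_mem _ _ _) (mul_mem (xx_mem _ _ _) (xx_mem _ _ _)) ?_ ?_ ?_
    · rw [h.1]; exact C.t_mul x.2 y.2
    · rw [h.2.1]; exact C.s_mul x.2 y.2
    · rw [h.2.2]; exact C.u_mul x.2 y.2)

theorem pi_apply (C : SpC S K) (Δ : Subgroup Kˣ) (x : S) : pi C Δ x = xx Δ (C.t x) (C.s x) (C.u x) := rfl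

variable (C : SpC S K) {Δ : Subgroup Kˣ}

theorem pi_eq_iff {x : S} {g : GD Δ} (hg : g ∈ T Δ) :
    pi C Δ x = g ↔ C.t x = g.1.1 0 1 ∧ C.s x = g.1.1 1 2 ∧ C.u x = g.1.1 0 2 := by
  constructor
  · rintro rfl
    exact ⟨rfl, rfl, rfl⟩
  · rintro ⟨h1, h2, h3⟩
    exact T_ext (xx_mem _ _ _) hg h1 h2 h3

theorem mem_ker {x : S} : x ∈ (pi C Δ).ker ↔ (x : Ω) ∈ C.Z1 := by
  rw [MonoidHom.mem_ker, pi_eq_iff C (one_mem _)]
  have h : ∀ i j : Fin 3, i ≠ j → (1 : GD Δ).1.1 i j = 0 := by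
    intro i j hij
    have := one_entry (K := K) i j
    rw [if_neg hij] at this
    exact this
  rw [h 0 1 (by decide), h 1 2 (by decide), h 0 2 (by decide)]
  exact ⟨fun h => ⟨x.2, h⟩, fun h => h.2⟩

theorem range_pi : (pi C Δ).range = T Δ := by
  apply le_antisymm
  · rintro _ ⟨x, rfl⟩
    exact xx_mem _ _ _
  · intro g hg
    obtain ⟨x, hx, h1, h2, h3, -⟩ := C.surj (g.1.1 0 1) (g.1.1 1 2) (g.1.1 0 2) 0
    exact ⟨⟨x, hx⟩, (pi_eq_iff C hg).2 ⟨h1, h2, h3⟩⟩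

/-- `z` on the kernel. -/
noncomputable def zHom (Δ : Subgroup Kˣ) : (pi C Δ).ker →* Multiplicative K :=
  MonoidHom.mk' (fun x => Multiplicative.ofAdd (C.z (x : S))) (by
    intro x y
    have hx := (mem_ker C).1 x.2
    have hy := (mem_ker C).1 y.2
    apply Multiplicative.toAdd.injective
    change C.z ((x : S) * (y : S) : Ω) = C.z (x : S) + C.z (y : S)
    rw [C.z_mul hx.1 hy.1, hx.2.1]
    ring)

theorem zHom_bijective (Δ : Subgroup Kˣ) : Function.Bijective (zHom C Δ) := by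
  constructor
  · intro x y h
    have hx := (mem_ker C).1 x.2
    have hy := (mem_ker C).1 y.2
    apply Subtype.ext
    apply Subtype.ext
    apply C.inj hx.1 hy.1
    · rw [hx.2.1, hy.2.1]
    · rw [hx.2.2.1, hy.2.2.1]
    · rw [hx.2.2.2, hy.2.2.2]
    · exact congrArg Multiplicative.toAdd h
  · intro a
    obtain ⟨x, hx, h1, h2, h3, h4⟩ := C.surj 0 0 0 a.toAdd
    exact ⟨⟨⟨x, hx⟩, (mem_ker C).2 ⟨hx, h1, h2, h3⟩⟩, congrArg Multiplicative.ofAdd h4⟩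

/-- `z` on the kernel. -/
noncomputable def zEquiv (Δ : Subgroup Kˣ) : (pi C Δ).ker ≃* Multiplicative K :=
  MulEquiv.ofBijective (zHom C Δ) (zHom_bijective C Δ)

theorem zEquiv_apply (x : (pi C Δ).ker) : zEquiv C Δ x = Multiplicative.ofAdd (C.z (x : S)) := rfl

/-- `g` acts on the kernel as `det g⁻¹`. -/
noncomputable def chi (Δ : Subgroup Kˣ) : GD Δ →* MulAut (pi C Δ).ker :=
  ((MulAut.congr (zEquiv C Δ)).symm.toMonoidHom).comp
    (((MulAutMultiplicative K).symm.toMonoidHom).comp ((DistribMulAction.toAddAut Kˣ K).comp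
      ((invMonoidHom : Kˣ →* Kˣ).comp
        ((Matrix.GeneralLinearGroup.det : GL (Fin 3) K →* Kˣ).comp (GD Δ).subtype))))

theorem chi_z (g : GD Δ) (x : (pi C Δ).ker) :
    C.z ((chi C Δ g x : (pi C Δ).ker) : S) =
      (((Matrix.GeneralLinearGroup.det g.1)⁻¹ : Kˣ) : K) * C.z (x : S) := by
  have h : zEquiv C Δ (chi C Δ g x) = Multiplicative.ofAdd
      ((((Matrix.GeneralLinearGroup.det g.1)⁻¹ : Kˣ) : K) * C.z (x : S)) := by
    change zEquiv C Δ ((zEquiv C Δ).symm _) = _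
    rw [MulEquiv.apply_symm_apply]
    rfl
  exact congrArg Multiplicative.toAdd h

theorem det_of_mem_T {g : GD Δ} (hg : g ∈ T Δ) : Matrix.GeneralLinearGroup.det g.1 = 1 := by
  obtain ⟨⟨h1, h2, h3⟩, h4⟩ := hg
  apply Units.ext
  rw [det_entries, h1, h2, h3, h4, h4, h4, Units.val_one]
  ring

theorem chi_of_mem_T {g : GD Δ} (hg : g ∈ T Δ) : chi C Δ g = 1 := by
  apply MulEquiv.ext
  intro x
  apply (zEquiv C Δ).injective
  apply Multiplicative.toAdd.injective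
  change C.z ((chi C Δ g x : (pi C Δ).ker) : S) = C.z (x : S)
  rw [chi_z, det_of_mem_T hg, inv_one, Units.val_one, one_mul]

/-- Lifts of the conjugation maps. -/
def L (Δ : Subgroup Kˣ) (P : Subgroup (GD Δ)) (g : GD Δ) : Prop :=
  ∃ φ : ↥(P.comap (pi C Δ)) →* ↥S, (∀ x, pi C Δ (φ x) = g⁻¹ * pi C Δ x * g) ∧
    ∀ x : ↥(P.comap (pi C Δ)), ((x : S) : Ω) ∈ C.Z1 →
      C.z (φ x) = ((Matrix.GeneralLinearGroup.det g.1 : Kˣ) : K) * C.z (x : S)

theorem L.mono {P P' : Subgroup (GD Δ)} {g : GD Δ} (h : P' ≤ P) (hL : L C Δ P g) : L C Δ P' g := by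
  obtain ⟨φ, h1, h2⟩ := hL
  refine ⟨φ.comp (Subgroup.inclusion (Subgroup.comap_mono h)), fun x => ?_, fun x hx => ?_⟩
  · exact h1 _
  · exact h2 _ hx

theorem L.comp {P : Subgroup (GD Δ)} {g g' : GD Δ} (hL : L C Δ P g)
    (hL' : L C Δ (P.map (MulAut.conj g⁻¹).toMonoidHom) g') : L C Δ P (g * g') := by
  obtain ⟨φ, h1, h2⟩ := hL
  obtain ⟨φ', h1', h2'⟩ := hL'
  have hmem : ∀ x, φ x ∈ (P.map (MulAut.conj g⁻¹).toMonoidHom).comap (pi C Δ) := by
    intro x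
    rw [Subgroup.mem_comap, h1]
    refine ⟨pi C Δ x, x.2, ?_⟩
    change g⁻¹ * pi C Δ x * g⁻¹⁻¹ = _
    rw [inv_inv]
  refine ⟨φ'.comp (φ.codRestrict _ hmem), fun x => ?_, fun x hx => ?_⟩
  · rw [MonoidHom.comp_apply, h1']
    change g'⁻¹ * pi C Δ (φ x) * g' = _
    rw [h1]
    group
  · rw [MonoidHom.comp_apply, h2']
    · change _ * C.z (φ x) = _
      rw [h2 x hx]
      change _ = ((Matrix.GeneralLinearGroup.det (g.1 * g'.1) : Kˣ) : K) * _
      rw [map_mul, Units.val_mul]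
      ring
    · change ((φ x : S) : Ω) ∈ C.Z1
      rw [← mem_ker C (Δ := Δ), MonoidHom.mem_ker, h1, MonoidHom.mem_ker.1 ((mem_ker C).2 hx)]
      group

theorem L.comp' {P : Subgroup (GD Δ)} {g g' : GD Δ} (hL : L C Δ P g) (hL' : L C Δ P g')
    (hg : g ∈ Subgroup.normalizer (P : Set (GD Δ))) : L C Δ P (g * g') :=
  L.comp C hL (L.mono C (map_conj_le hg le_rfl) hL')

theorem L_of_mem_T {g : GD Δ} (hg : g ∈ T Δ) : L C Δ (T Δ) g := by
  obtain ⟨s, hs⟩ : g ∈ (pi C Δ).range := by rw [range_pi]; exact hg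
  refine ⟨(MulAut.conj s⁻¹).toMonoidHom.comp (Subgroup.subtype _), fun x => ?_, fun x hx => ?_⟩
  · change pi C Δ (s⁻¹ * x * s⁻¹⁻¹) = _
    rw [map_mul, map_mul, inv_inv, map_inv, hs]
  · change C.z ((s : Ω)⁻¹ * (x : S) * (s : Ω)⁻¹⁻¹) = _
    rw [mul_assoc, C.Z1_comm hx (S.inv_mem (S.inv_mem s.2)), ← mul_assoc, mul_inv_cancel, one_mul,
      det_of_mem_T hg, Units.val_one, one_mul]

/-- A diagonal matrix. -/
theorem L_of_diag [Finite K] (hK : ∀ c : K, c ≠ 0 → c ^ 3 = 1) {F : FusionSystem S} (D : TwoData F C Δ)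
    {d : GD Δ} (hd : Dg d.1.1) : L C Δ (T Δ) d := by
  obtain ⟨h01, h02, h10, h12, h20, h21⟩ := hd
  have hdet := det_entries d.1
  rw [h01, h02, h12] at hdet
  have hdet' : ((Matrix.GeneralLinearGroup.det d.1 : Kˣ) : K) = d.1.1 0 0 * d.1.1 1 1 * d.1.1 2 2 := by
    rw [hdet]; ring
  have hne : d.1.1 0 0 * d.1.1 1 1 * d.1.1 2 2 ≠ 0 := by
    rw [← hdet']; exact Units.ne_zero _
  have h0 : d.1.1 0 0 ≠ 0 := fun h => hne (by rw [h]; ring)
  have h1 : d.1.1 1 1 ≠ 0 := fun h => hne (by rw [h]; ring)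
  have h2 : d.1.1 2 2 ≠ 0 := fun h => hne (by rw [h]; ring)
  let a : Kˣ := Units.mk0 (d.1.1 1 1 / d.1.1 0 0) (div_ne_zero h1 h0)
  let b : Kˣ := Units.mk0 (d.1.1 2 2 / d.1.1 1 1) (div_ne_zero h2 h1)
  have hab : a ^ 2 * b = Matrix.GeneralLinearGroup.det d.1 := by
    apply Units.ext
    rw [hdet']
    change (d.1.1 1 1 / d.1.1 0 0) ^ 2 * (d.1.1 2 2 / d.1.1 1 1) = _
    have h3 := hK _ h0
    field_simp
    linear_combination -h3
  have hmem : a ^ 2 * b ∈ Δ := by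
    rw [hab]; exact d.2
  obtain ⟨α, -, hα, hz⟩ := D.exS a b hmem
  refine ⟨α.toMonoidHom.comp (Subgroup.subtype _), fun x => ?_, fun x hx => ?_⟩
  · obtain ⟨k1, k2, k3⟩ := hα x
    have hup : Up d.1.1 := ⟨h10, h20, h21⟩
    have i0 := hup.diag_mul_inv 0
    have i1 := hup.diag_mul_inv 1
    have i2 := hup.diag_mul_inv 2
    -- entries of the inverse
    have e := fun i j => mul_entry d.1 d.1⁻¹ i j
    simp only [mul_inv_cancel, one_entry] at e
    have e01 := e 0 1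
    have e02 := e 0 2
    have e12 := e 1 2
    rw [if_neg (by decide), h01, h02] at e01 e02
    rw [if_neg (by decide), h10, h12] at e12
    have v01 : (d.1⁻¹).1 0 1 = 0 := by
      have : d.1.1 0 0 * (d.1⁻¹).1 0 1 = 0 := by linear_combination -e01
      exact (mul_eq_zero.1 this).resolve_left h0
    have v02 : (d.1⁻¹).1 0 2 = 0 := by
      have : d.1.1 0 0 * (d.1⁻¹).1 0 2 = 0 := by linear_combination -e02
      exact (mul_eq_zero.1 this).resolve_left h0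
    have v12 : (d.1⁻¹).1 1 2 = 0 := by
      have : d.1.1 1 1 * (d.1⁻¹).1 1 2 = 0 := by linear_combination -e12
      exact (mul_eq_zero.1 this).resolve_left h1
    have w0 : (d.1⁻¹).1 0 0 = (d.1.1 0 0)⁻¹ := eq_inv_of_mul_eq_one_right i0
    have w1 : (d.1⁻¹).1 1 1 = (d.1.1 1 1)⁻¹ := eq_inv_of_mul_eq_one_right i1
    rw [pi_eq_iff C]
    · have ee : ∀ i j, (d⁻¹ * pi C Δ (x : S) * d).1.1 i j = (if i = j then 1 else 0) +
          ((d.1⁻¹).1 i 0 * (C.t (x : S) * d.1.1 1 j + C.u (x : S) * d.1.1 2 j) +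
            (d.1⁻¹).1 i 1 * (C.s (x : S) * d.1.1 2 j)) := by
        intro i j
        have := conj_entry_xx (Δ := Δ) (C.t (x : S)) (C.s (x : S)) (C.u (x : S)) d⁻¹ i j
        rw [inv_inv] at this
        rw [pi_apply, this]
        change _ + ((d.1⁻¹).1 i 0 * (_ * (d.1⁻¹⁻¹).1 1 j + _ * (d.1⁻¹⁻¹).1 2 j) +
          (d.1⁻¹).1 i 1 * (_ * (d.1⁻¹⁻¹).1 2 j)) = _
        rw [inv_inv]
      refine ⟨?_, ?_, ?_⟩
      · rw [ee, if_neg (by decide), h21, v01, w0]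
        change C.t (α x : S) = _
        rw [k1]
        change d.1.1 1 1 / d.1.1 0 0 * _ = _
        ring
      · rw [ee, if_neg (by decide), w1]
        have v10 := hup.inv.1
        rw [v10]
        change C.s (α x : S) = _
        rw [k2]
        change d.1.1 2 2 / d.1.1 1 1 * _ = _
        ring
      · rw [ee, if_neg (by decide), h12, v01, w0]
        change C.u (α x : S) = _
        rw [k3]
        change (d.1.1 1 1 / d.1.1 0 0) * (d.1.1 2 2 / d.1.1 1 1) * _ = _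
        field_simp
        ring
    · have := (Subgroup.mem_normalizer_iff.1 (inv_mem (up_mem_normalizer (Δ := Δ) (b := d)
        ⟨h10, h20, h21⟩)) (pi C Δ (x : S))).1 (xx_mem _ _ _)
      rwa [inv_inv] at this
  · obtain ⟨-, k⟩ := hz x hx
    change C.z (α x : S) = _
    rw [k, ← Units.val_pow_eq_pow_val, ← Units.val_mul, hab]

/-- Triangular matrices. -/
theorem L_of_up [Finite K] (hK : ∀ c : K, c ≠ 0 → c ^ 3 = 1) {F : FusionSystem S} (D : TwoData F C Δ)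
    {g : GD Δ} (hg : Up g.1.1) : L C Δ (T Δ) g := by
  have hdet : ((Matrix.GeneralLinearGroup.det g.1 : Kˣ) : K) = g.1.1 0 0 * g.1.1 1 1 * g.1.1 2 2 := by
    rw [det_entries, hg.1, hg.2.1, hg.2.2]; ring
  obtain ⟨d, hd⟩ : ∃ d : GD Δ, d.1.1 = !![g.1.1 0 0, 0, 0; 0, g.1.1 1 1, 0; 0, 0, g.1.1 2 2] :=
    ⟨mk _ (Matrix.GeneralLinearGroup.det g.1) (by rw [hdet, Matrix.det_fin_three]; simp) g.2, rfl⟩
  have hD : Dg d.1.1 := by
    rw [hd]
    refine ⟨?_, ?_, ?_, ?_, ?_, ?_⟩ <;> simp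
  have hn : d⁻¹ * g ∈ T Δ := by
    refine ⟨hD.up.inv.mul hg, fun i => ?_⟩
    change (d.1⁻¹ * g.1).1 i i = 1
    rw [hD.up.inv.mul_diag hg]
    have h1 := hD.up.diag_mul_inv i
    have h2 : d.1.1 i i = g.1.1 i i := by
      rw [hd]; fin_cases i <;> simp
    rw [← h2, mul_comm]
    exact h1
  have := L.comp' C (L_of_diag C hK D hD) (L_of_mem_T C hn) (up_mem_normalizer hD.up)
  rwa [mul_inv_cancel_left] at this

theorem mem_M_comap {x : S} : x ∈ (M Δ).comap (pi C Δ) ↔ (x : Ω) ∈ C.M := by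
  rw [Subgroup.mem_comap]
  constructor
  · rintro ⟨-, h⟩
    exact ⟨x.2, h⟩
  · rintro ⟨-, h⟩
    exact ⟨xx_mem _ _ _, h⟩

theorem mem_M'_comap {x : S} : x ∈ (M' Δ).comap (pi C Δ) ↔ (x : Ω) ∈ C.L 0 := by
  rw [Subgroup.mem_comap]
  constructor
  · rintro ⟨-, h⟩
    exact ⟨x.2, by rw [zero_mul]; exact h⟩
  · rintro ⟨-, h⟩
    exact ⟨xx_mem _ _ _, by rw [zero_mul] at h; exact h⟩

/-- The restriction of an automorphism of `P ≤ S` to a homomorphism into `S`. -/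
def homOf {P : Subgroup Ω} (hP : P ≤ S) (n : MulAut P) {Q : Subgroup S} (hQ : ∀ x ∈ Q, (x : Ω) ∈ P) :
    ↥Q →* ↥S where
  toFun x := ⟨(n ⟨(x : S), hQ x x.2⟩ : P), hP (n ⟨(x : S), hQ x x.2⟩).2⟩
  map_one' := by
    apply Subtype.ext
    have : n ⟨((1 : Q) : S), hQ _ (1 : Q).2⟩ = 1 := by
      have h : (⟨((1 : Q) : S), hQ _ (1 : Q).2⟩ : P) = 1 := rfl
      rw [h, map_one]
    change ((n _ : P) : Ω) = 1
    rw [this]; rfl
  map_mul' := by
    intro x y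
    apply Subtype.ext
    have h : (⟨((x * y : Q) : S), hQ _ (x * y).2⟩ : P) = ⟨(x : S), hQ x x.2⟩ * ⟨(y : S), hQ y y.2⟩ := rfl
    change ((n _ : P) : Ω) = (n _ : P) * (n _ : P)
    rw [h, map_mul]; rfl

theorem coe_homOf {P : Subgroup Ω} (hP : P ≤ S) (n : MulAut P) {Q : Subgroup S} (hQ : ∀ x ∈ Q, (x : Ω) ∈ P)
    (x : Q) : ((homOf hP n hQ x : S) : Ω) = (n ⟨(x : S), hQ x x.2⟩ : P) := rfl

theorem L_s1 [CharP K 2] {F : FusionSystem S} (D : TwoData F C Δ) : L C Δ (M Δ) (s1 Δ) := by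
  obtain ⟨n, -, hn1, hn2⟩ := D.nM
  refine ⟨homOf C.M_le n (fun x hx => (mem_M_comap C).1 hx), fun x => ?_, fun x hx => ?_⟩
  · have hxM := (mem_M_comap C).1 x.2
    obtain ⟨k1, k2⟩ := hn2 ⟨_, hxM⟩
    have hcon : (s1 Δ)⁻¹ * pi C Δ (x : S) * s1 Δ ∈ T Δ := by
      have := (Subgroup.mem_normalizer_iff.1 (inv_mem (s1_mem (Δ := Δ))) (pi C Δ (x : S))).1 x.2
      rw [inv_inv] at this
      exact M_le_T this
    rw [pi_eq_iff C hcon]
    have e : ((s1 Δ)⁻¹ * pi C Δ (x : S) * s1 Δ).1.1 = _ := conj_s1 (Δ := Δ) (pi C Δ (x : S)).1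
    rw [e, pi_apply, xx_val]
    refine ⟨?_, ?_, ?_⟩
    · change C.t (n ⟨_, hxM⟩ : C.M) = _
      rw [(n ⟨_, hxM⟩).2.2]
      simp
    · change C.s (n ⟨_, hxM⟩ : C.M) = _
      rw [k1]
      simp
    · change C.u (n ⟨_, hxM⟩ : C.M) = _
      rw [k2]
      simp [CharTwo.neg_eq]
  · change C.z (n ⟨(x : S), _⟩ : C.M) = _
    rw [hn1 _ hx]
    have : Matrix.GeneralLinearGroup.det (s1 Δ).1 = 1 := by
      apply Units.ext
      rw [Matrix.GeneralLinearGroup.val_det_apply, s1_val]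
      simp [Matrix.det_fin_three]
    rw [this, Units.val_one, one_mul]

theorem L_s2 [CharP K 2] {F : FusionSystem S} (D : TwoData F C Δ) : L C Δ (M' Δ) (s2 Δ) := by
  obtain ⟨n, -, hn1, hn2⟩ := D.nL
  refine ⟨homOf (C.L_le 0) n (fun x hx => (mem_M'_comap C).1 hx), fun x => ?_, fun x hx => ?_⟩
  · have hxM := (mem_M'_comap C).1 x.2
    obtain ⟨k1, k2⟩ := hn2 ⟨_, hxM⟩
    have hcon : (s2 Δ)⁻¹ * pi C Δ (x : S) * s2 Δ ∈ T Δ := by
      have := (Subgroup.mem_normalizer_iff.1 (inv_mem (s2_mem (Δ := Δ))) (pi C Δ (x : S))).1 x.2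
      rw [inv_inv] at this
      exact M'_le_T this
    rw [pi_eq_iff C hcon]
    have e : ((s2 Δ)⁻¹ * pi C Δ (x : S) * s2 Δ).1.1 = _ := conj_s2 (Δ := Δ) (pi C Δ (x : S)).1
    rw [e, pi_apply, xx_val]
    refine ⟨?_, ?_, ?_⟩
    · change C.t (n ⟨_, hxM⟩ : C.L 0) = _
      rw [k1]
      simp [CharTwo.neg_eq]
    · change C.s (n ⟨_, hxM⟩ : C.L 0) = _
      rw [(n ⟨_, hxM⟩).2.2]
      simp
    · change C.u (n ⟨_, hxM⟩ : C.L 0) = _
      rw [k2]
      simp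
  · change C.z (n ⟨(x : S), _⟩ : C.L 0) = _
    rw [hn1 _ hx]
    have : Matrix.GeneralLinearGroup.det (s2 Δ).1 = 1 := by
      apply Units.ext
      rw [Matrix.GeneralLinearGroup.val_det_apply, s2_val]
      simp [Matrix.det_fin_three]
    rw [this, Units.val_one, one_mul]

/-- The normaliser of `M`. -/
theorem L_of_mem_normalizer_M [Finite K] [CharP K 2] (hK : ∀ c : K, c ≠ 0 → c ^ 3 = 1) {F : FusionSystem S}
    (D : TwoData F C Δ) {g : GD Δ} (hg : g ∈ Subgroup.normalizer (M Δ : Set (GD Δ))) : L C Δ (M Δ) g := by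
  obtain ⟨h20, h21⟩ := mem_normalizer_M_iff.1 hg
  by_cases h10 : g.1.1 1 0 = 0
  · exact L.mono C M_le_T (L_of_up C hK D ⟨h10, h20, h21⟩)
  · set c := g.1.1 1 1 / g.1.1 1 0 with hc
    set v : GD Δ := xx Δ c 0 0 with hv
    have hvup : Up v.1.1 := (xx_mem (Δ := Δ) c 0 0).1
    set b : GD Δ := g * v⁻¹ * (s1 Δ)⁻¹ with hb
    have hvi : (v.1⁻¹).1 = !![1, -c, 0; 0, 1, 0; 0, 0, 1] := by
      have : v⁻¹ = xx Δ (-c) 0 0 := by
        rw [inv_eq_iff_mul_eq_one]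
        have h := T_mul (xx_mem (Δ := Δ) c 0 0) (xx_mem (Δ := Δ) (-c) 0 0)
        refine T_ext (mul_mem (xx_mem _ _ _) (xx_mem _ _ _)) (one_mem _) ?_ ?_ ?_
        · rw [h.1]
          have := one_entry (K := K) 0 1
          rw [if_neg (by decide)] at this
          change c + -c = (1 : GL (Fin 3) K).1 0 1
          rw [this]; ring
        · rw [h.2.1]
          have := one_entry (K := K) 1 2
          rw [if_neg (by decide)] at this
          change (0 : K) + 0 = (1 : GL (Fin 3) K).1 1 2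
          rw [this]; ring
        · rw [h.2.2]
          have := one_entry (K := K) 0 2
          rw [if_neg (by decide)] at this
          change (0 : K) + 0 + c * 0 = (1 : GL (Fin 3) K).1 0 2
          rw [this]; ring
      have h2 : v.1⁻¹ = (xx Δ (-c) 0 0).1 := congrArg Subtype.val this
      rw [h2, xx_val]
    have eb : ∀ i j, b.1.1 i j = (g.1 * v.1⁻¹).1 i 0 * ((s1 Δ).1⁻¹).1 0 j + (g.1 * v.1⁻¹).1 i 1 *
        ((s1 Δ).1⁻¹).1 1 j + (g.1 * v.1⁻¹).1 i 2 * ((s1 Δ).1⁻¹).1 2 j := fun i j => mul_entry _ _ _ _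
    have ev : ∀ i j, (g.1 * v.1⁻¹).1 i j = g.1.1 i 0 * (v.1⁻¹).1 0 j + g.1.1 i 1 * (v.1⁻¹).1 1 j +
        g.1.1 i 2 * (v.1⁻¹).1 2 j := fun i j => mul_entry _ _ _ _
    have hbup : Up b.1.1 := by
      refine ⟨?_, ?_, ?_⟩
      · rw [eb, ev, ev, ev, hvi, s1_inv]
        simp
        rw [hc]
        field_simp
        ring
      · rw [eb, ev, ev, ev, hvi, s1_inv]
        simp [h20, h21]
      · rw [eb, ev, ev, ev, hvi, s1_inv]
        simp [h20]
    have hbM : b ∈ Subgroup.normalizer (M Δ : Set (GD Δ)) := mem_normalizer_M_iff.2 ⟨hbup.2.1, hbup.2.2⟩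
    have eg : g = b * (s1 Δ * v) := by rw [hb]; group
    rw [eg]
    exact L.comp' C (L.mono C M_le_T (L_of_up C hK D hbup))
      (L.comp' C (L_s1 C D) (L.mono C M_le_T (L_of_up C hK D hvup)) s1_mem) hbM

/-- The normaliser of `M'`. -/
theorem L_of_mem_normalizer_M' [Finite K] [CharP K 2] (hK : ∀ c : K, c ≠ 0 → c ^ 3 = 1) {F : FusionSystem S}
    (D : TwoData F C Δ) {g : GD Δ} (hg : g ∈ Subgroup.normalizer (M' Δ : Set (GD Δ))) : L C Δ (M' Δ) g := by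
  obtain ⟨h10, h20⟩ := mem_normalizer_M'_iff.1 hg
  by_cases h21 : g.1.1 2 1 = 0
  · exact L.mono C M'_le_T (L_of_up C hK D ⟨h10, h20, h21⟩)
  · set c := g.1.1 2 2 / g.1.1 2 1 with hc
    set v : GD Δ := xx Δ 0 c 0 with hv
    have hvup : Up v.1.1 := (xx_mem (Δ := Δ) 0 c 0).1
    set b : GD Δ := g * v⁻¹ * (s2 Δ)⁻¹ with hb
    have hvi : (v.1⁻¹).1 = !![1, 0, 0; 0, 1, -c; 0, 0, 1] := by
      have : v⁻¹ = xx Δ 0 (-c) 0 := by
        rw [inv_eq_iff_mul_eq_one]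
        have h := T_mul (xx_mem (Δ := Δ) 0 c 0) (xx_mem (Δ := Δ) 0 (-c) 0)
        refine T_ext (mul_mem (xx_mem _ _ _) (xx_mem _ _ _)) (one_mem _) ?_ ?_ ?_
        · rw [h.1]
          have := one_entry (K := K) 0 1
          rw [if_neg (by decide)] at this
          change (0 : K) + 0 = (1 : GL (Fin 3) K).1 0 1
          rw [this]; ring
        · rw [h.2.1]
          have := one_entry (K := K) 1 2
          rw [if_neg (by decide)] at this
          change c + -c = (1 : GL (Fin 3) K).1 1 2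
          rw [this]; ring
        · rw [h.2.2]
          have := one_entry (K := K) 0 2
          rw [if_neg (by decide)] at this
          change (0 : K) + 0 + 0 * -c = (1 : GL (Fin 3) K).1 0 2
          rw [this]; ring
      have h2 : v.1⁻¹ = (xx Δ 0 (-c) 0).1 := congrArg Subtype.val this
      rw [h2, xx_val]
    have eb : ∀ i j, b.1.1 i j = (g.1 * v.1⁻¹).1 i 0 * ((s2 Δ).1⁻¹).1 0 j + (g.1 * v.1⁻¹).1 i 1 *
        ((s2 Δ).1⁻¹).1 1 j + (g.1 * v.1⁻¹).1 i 2 * ((s2 Δ).1⁻¹).1 2 j := fun i j => mul_entry _ _ _ _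
    have ev : ∀ i j, (g.1 * v.1⁻¹).1 i j = g.1.1 i 0 * (v.1⁻¹).1 0 j + g.1.1 i 1 * (v.1⁻¹).1 1 j +
        g.1.1 i 2 * (v.1⁻¹).1 2 j := fun i j => mul_entry _ _ _ _
    have hbup : Up b.1.1 := by
      refine ⟨?_, ?_, ?_⟩
      · rw [eb, ev, ev, ev, hvi, s2_inv]
        simp [h10]
      · rw [eb, ev, ev, ev, hvi, s2_inv]
        simp [h20]
      · rw [eb, ev, ev, ev, hvi, s2_inv]
        simp
        rw [hc]
        field_simp
        ring
    have hbM : b ∈ Subgroup.normalizer (M' Δ : Set (GD Δ)) := mem_normalizer_M'_iff.2 ⟨hbup.1, hbup.2.1⟩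
    have eg : g = b * (s2 Δ * v) := by rw [hb]; group
    rw [eg]
    exact L.comp' C (L.mono C M'_le_T (L_of_up C hK D hbup))
      (L.comp' C (L_s2 C D) (L.mono C M'_le_T (L_of_up C hK D hvup)) s2_mem) hbM

/-- **The extension.** -/
theorem exists_extData [Finite K] [CharP K 2] [Finite S] (hS : IsPGroup 2 S) {F : FusionSystem S}
    {C : SpC S K} {Δ : Subgroup Kˣ} (hK : ∀ c : K, c ≠ 0 → c ^ 3 = 1) (D : TwoData F C Δ) :
    ∃ (E : Type (max u v)) (_ : Group E) (_ : Finite E) (ι : S →* E) (ρ : E →* GD Δ), ExtData C Δ ι ρ := by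
  have : Fact (Nat.Prime 2) := ⟨Nat.prime_two⟩
  have hall : ∀ P ≤ T Δ, ∀ g, P.map (MulAut.conj g⁻¹).toMonoidHom ≤ T Δ → L C Δ P g :=
    alperin_gl3 (L C Δ) (fun P P' g h hL => L.mono C h hL)
      (fun P g g' _ _ _ h h' => L.comp C h h')
      (fun g hg => L_of_up C hK D (up_of_mem_normalizer hg))
      (fun g hg => L_of_mem_normalizer_M C hK D hg)
      (fun g hg => L_of_mem_normalizer_M' C hK D hg)
  obtain ⟨E, i1, i2, ι, ρ, h1, h2, h3, h4, h5⟩ := Cfsg.Agent.H131.ExtTransfer.exists_ext (sylowT Δ) (pi C Δ)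
    (range_pi C)
    (fun u hu s => Subtype.ext (C.Z1_comm ((mem_ker C).1 hu) s.2))
    (fun u _ => hS u)
    (chi C Δ) (fun s => chi_of_mem_T C (xx_mem _ _ _))
    (fun g => by
      have hP : (T Δ ⊓ (T Δ).map (MulAut.conj g).toMonoidHom).map (MulAut.conj g⁻¹).toMonoidHom ≤ T Δ := by
        rintro _ ⟨x, ⟨-, y, hy, rfl⟩, rfl⟩
        change g⁻¹ * (g * y * g⁻¹) * g⁻¹⁻¹ ∈ T Δ
        have : g⁻¹ * (g * y * g⁻¹) * g⁻¹⁻¹ = y := by group
        rw [this]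
        exact hy
      obtain ⟨φ, hφ1, hφ2⟩ := hall _ inf_le_left g hP
      refine ⟨φ, hφ1, fun x u hxu => ?_⟩
      have hx : ((x : S) : Ω) ∈ C.Z1 := by rw [hxu]; exact (mem_ker C).1 u.2
      have h6 := hφ2 x hx
      have h7 : φ x ∈ (pi C Δ).ker := by
        have e1 : pi C Δ (φ x) = g⁻¹ * pi C Δ (x : S) * g := hφ1 x
        rw [MonoidHom.mem_ker]
        refine e1.trans ?_
        rw [MonoidHom.mem_ker.1 ((mem_ker C).2 hx)]
        group
      have h8 : (⟨φ x, h7⟩ : (pi C Δ).ker) = (chi C Δ g)⁻¹ u := by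
        rw [← map_inv]
        apply (zEquiv C Δ).injective
        apply Multiplicative.toAdd.injective
        change C.z (φ x) = C.z ((chi C Δ g⁻¹ u : (pi C Δ).ker) : S)
        rw [chi_z, h6, hxu]
        change _ = (((Matrix.GeneralLinearGroup.det (g.1⁻¹))⁻¹ : Kˣ) : K) * _
        rw [map_inv, inv_inv]
      exact congrArg Subtype.val h8)
  refine ⟨E, i1, i2, ι, ρ, ⟨h1, h2, h3, fun e he => ?_, fun e x y hx hy hz => ?_⟩⟩
  · obtain ⟨u, rfl⟩ := h4 e he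
    exact ⟨u, (mem_ker C).1 u.2, rfl⟩
  · have h6 := h5 e ⟨x, (mem_ker C).2 hx⟩
    rw [h6]
    have h8 : (chi C Δ (ρ e) ⟨x, (mem_ker C).2 hx⟩) = (⟨y, (mem_ker C).2 hy⟩ : (pi C Δ).ker) := by
      apply (zEquiv C Δ).injective
      apply Multiplicative.toAdd.injective
      change C.z ((chi C Δ (ρ e) ⟨x, (mem_ker C).2 hx⟩ : (pi C Δ).ker) : S) = C.z y
      rw [chi_z]
      change (((Matrix.GeneralLinearGroup.det (ρ e).1)⁻¹ : Kˣ) : K) * C.z x = C.z y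
      rw [← hz, mul_comm (C.z (y : Ω)), ← mul_assoc, ← Units.val_mul, inv_mul_cancel, Units.val_one, one_mul]
    rw [h8]

end Cfsg.Agent.H971.SpExt
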